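import Mathlib
import Cfsg.Agent.CharBase.Column

set_option autoImplicit false
set_option linter.unusedSectionVars false

/-! # Groups with abelian involution centralisers: basics (helper2) -/

namespace Cfsg.Agent.AbC

open scoped Classical

universe u

variable {G : Type u} [Group G]

/-- involution -/
def Inv (t : G) : Prop := t ≠ 1 ∧ t * t = 1

theorem Inv.inv {t : G} (h : Inv t) : t⁻¹ = t := inv_eq_of_mul_eq_one_left h.2

theorem Inv.conj {t : G} (h : Inv t) (g : G) : Inv (g * t * g⁻¹) := by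
  refine ⟨fun h1 => h.1 (conj_eq_one_iff.1 h1), ?_⟩
  calc g * t * g⁻¹ * (g * t * g⁻¹) = g * (t * t) * g⁻¹ := by group
    _ = 1 := by rw [h.2]; group

theorem Inv.orderOf {t : G} (h : Inv t) : orderOf t = 2 := orderOf_eq_prime (by rw [sq]; exact h.2) h.1

/-- two involutions with product of odd order are conjugate in the group they generate -/
theorem exists_conj_of_odd {t v : G} (ht : Inv t) (hv : Inv v) (h : Odd (orderOf (t * v))) :
    ∃ g ∈ Subgroup.closure ({t, v} : Set G), g * t * g⁻¹ = v := by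
  obtain ⟨k, hk⟩ := h
  set x := t * v with hx
  have hmt : t ∈ Subgroup.closure ({t, v} : Set G) := Subgroup.subset_closure (by simp)
  have hmv : v ∈ Subgroup.closure ({t, v} : Set G) := Subgroup.subset_closure (by simp)
  have hxi : t * x * t⁻¹ = x⁻¹ := by
    rw [hx, mul_inv_rev, ht.inv, hv.inv]
    calc t * (t * v) * t = (t * t) * v * t := by group
      _ = v * t := by rw [ht.2, one_mul]
  have hpow : ∀ n : ℕ, t * x ^ n * t⁻¹ = (x ^ n)⁻¹ := by
    intro n
    rw [← conj_pow, hxi, inv_pow]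
  refine ⟨(x ^ (k + 1))⁻¹, Subgroup.inv_mem _ (Subgroup.pow_mem _ (Subgroup.mul_mem _ hmt hmv) _), ?_⟩
  rw [inv_inv]
  have h1 := hpow (k + 1)
  have h2 : (x ^ (k + 1))⁻¹ * t = t * x ^ (k + 1) := by
    rw [← h1]; group
  rw [h2, mul_assoc, ← pow_add]
  have h3 : x ^ (k + 1 + (k + 1)) = x := by
    have h4 : k + 1 + (k + 1) = (2 * k + 1) + 1 := by ring
    rw [h4, ← hk, pow_succ, pow_orderOf_eq_one, one_mul]
  rw [h3, hx, ← mul_assoc, ht.2, one_mul]

/-- two involutions with product of even order commute with a common involution -/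
theorem exists_inv_of_even [Finite G] {t v : G} (ht : Inv t) (hv : Inv v) (h : ¬ Odd (orderOf (t * v))) :
    ∃ w : G, Inv w ∧ w * t = t * w ∧ w * v = v * w := by
  rw [Nat.not_odd_iff_even] at h
  obtain ⟨k, hk⟩ := h
  set x := t * v with hx
  have hpos : 0 < orderOf x := orderOf_pos x
  have hxi : t * x * t⁻¹ = x⁻¹ := by
    rw [hx, mul_inv_rev, ht.inv, hv.inv]
    calc t * (t * v) * t = (t * t) * v * t := by group
      _ = v * t := by rw [ht.2, one_mul]
  have hw : Inv (x ^ k) := by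
    constructor
    · intro h1
      have := orderOf_dvd_of_pow_eq_one h1
      have := Nat.le_of_dvd (by omega) this
      omega
    · rw [← pow_add, ← hk, pow_orderOf_eq_one]
  have h1 : x ^ k * t = t * x ^ k := by
    have h2 : t * x ^ k * t⁻¹ = x ^ k := by
      rw [← conj_pow, hxi, inv_pow]
      exact hw.inv
    exact (mul_inv_eq_iff_eq_mul.1 h2).symm
  refine ⟨x ^ k, hw, h1, ?_⟩
  have h3 : v = t * x := by rw [hx, ← mul_assoc, ht.2, one_mul]
  rw [h3]
  calc x ^ k * (t * x) = (x ^ k * t) * x := by group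
    _ = (t * x ^ k) * x := by rw [h1]
    _ = t * (x ^ k * x) := by group
    _ = t * (x * x ^ k) := by rw [pow_mul_comm']
    _ = _ := by group

/-- all centralisers of involutions are abelian -/
def AbCent (G : Type u) [Group G] : Prop := ∀ t : G, Inv t → ∀ a b : G, a * t = t * a → b * t = t * b → a * b = b * a

/-- abelian centralisers, a noncyclic non-normal Sylow subgroup -/
structure Hyp (S : Sylow 2 G) : Prop where
  ab : AbCent G
  two : ∃ t t' : G, t ∈ (S : Subgroup G) ∧ t' ∈ (S : Subgroup G) ∧ Inv t ∧ Inv t' ∧ t ≠ t'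
  nn : ∃ g : G, g ∉ Subgroup.normalizer ((S : Subgroup G) : Set G)

theorem AbCent.comm_of {G : Type u} [Group G] (h : AbCent G) {t t' : G} (ht : Inv t) (ht' : Inv t') (htt : t' * t = t * t')
    {g : G} (hg : g * t = t * g) : g * t' = t' * g := h t ht g t' hg htt

variable [Finite G]

/-- a nontrivial 2-element of even order has an involution power -/
theorem exists_inv_pow {x : G} (hx : Even (orderOf x)) : ∃ n : ℕ, Inv (x ^ n) := by
  obtain ⟨k, hk⟩ := hx
  have hpos : 0 < orderOf x := orderOf_pos x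
  refine ⟨k, ?_, ?_⟩
  · intro h1
    have := orderOf_dvd_of_pow_eq_one h1
    have := Nat.le_of_dvd (by omega) this
    omega
  · rw [← pow_add, ← hk, pow_orderOf_eq_one]

theorem exists_inv_mem {P : Subgroup G} (hP : IsPGroup 2 P) (hne : P ≠ ⊥) : ∃ t ∈ P, Inv t := by
  haveI : Fact (Nat.Prime 2) := ⟨Nat.prime_two⟩
  obtain ⟨x, hx, hx1⟩ : ∃ x ∈ P, x ≠ 1 := by
    by_contra hcon
    push Not at hcon
    exact hne ((Subgroup.eq_bot_iff_forall P).2 hcon)
  obtain ⟨n, hn⟩ := IsPGroup.iff_orderOf.1 hP ⟨x, hx⟩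
  rw [Subgroup.orderOf_mk] at hn
  have hn0 : n ≠ 0 := by
    rintro rfl
    rw [pow_zero, orderOf_eq_one_iff] at hn
    exact hx1 hn
  obtain ⟨m, hm⟩ := exists_inv_pow (x := x) (by rw [hn]; exact Nat.even_pow.2 ⟨even_two, hn0⟩)
  exact ⟨x ^ m, P.pow_mem hx m, hm⟩

namespace Hyp

variable {S : Sylow 2 G} (H : Hyp S)
include H

theorem S_comm : ∀ a ∈ (S : Subgroup G), ∀ b ∈ (S : Subgroup G), a * b = b * a := by
  haveI : Fact (Nat.Prime 2) := ⟨Nat.prime_two⟩
  obtain ⟨t, -, ht, -, hti, -⟩ := H.two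
  -- an involution in the centre of `S`
  haveI : Nontrivial S := ⟨⟨⟨t, ht⟩, 1, fun h => hti.1 (congrArg Subtype.val h)⟩⟩
  have hc := S.isPGroup'.center_nontrivial
  have hcp : IsPGroup 2 (Subgroup.center S) := S.isPGroup'.to_subgroup _
  obtain ⟨c, hc1⟩ := exists_ne (1 : Subgroup.center S)
  obtain ⟨x, hx, hxi⟩ := exists_inv_mem (P := Subgroup.center S) hcp (by
    intro h
    apply hc1
    apply Subtype.ext
    exact (Subgroup.eq_bot_iff_forall _).1 h c c.2)
  have hxi' : Inv (x : G) := ⟨fun h => hxi.1 (Subtype.ext h), congrArg Subtype.val hxi.2⟩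
  intro a ha b hb
  apply H.ab x hxi' a b
  · exact congrArg Subtype.val (Subgroup.mem_center_iff.1 hx ⟨a, ha⟩)
  · exact congrArg Subtype.val (Subgroup.mem_center_iff.1 hx ⟨b, hb⟩)

/-- commuting involutions have the same centraliser -/
theorem cent_iff {t t' : G} (ht : Inv t) (ht' : Inv t') (htt : t' * t = t * t') {g : G} : g * t = t * g ↔ g * t' = t' * g :=
  ⟨fun h => H.ab.comm_of ht ht' htt h, fun h => H.ab.comm_of ht' ht htt.symm h⟩

/-- a 2-element commuting with an involution of `S` lies in `S` -/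
theorem mem_S {t x : G} (ht : Inv t) (htS : t ∈ (S : Subgroup G)) (hx : IsPGroup 2 (Subgroup.zpowers x))
    (hxt : x * t = t * x) : x ∈ (S : Subgroup G) := by
  haveI : Fact (Nat.Prime 2) := ⟨Nat.prime_two⟩
  have h1 : ∀ s ∈ (S : Subgroup G), x * s = s * x := fun s hs => H.ab t ht x s hxt (H.S_comm s hs t htS)
  have h2 : Subgroup.zpowers x ≤ Subgroup.normalizer ((S : Subgroup G) : Set G) := by
    rw [Subgroup.zpowers_le, Subgroup.mem_normalizer_iff]
    intro s
    constructor
    · intro hs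
      rw [h1 s hs, mul_inv_cancel_right]; exact hs
    · intro hs
      have h3 := h1 _ hs
      have h4 : x * s * x⁻¹ = s := by
        have h5 : x * (x * s * x⁻¹) * x⁻¹ = x * s * x⁻¹ := by rw [h3, mul_inv_cancel_right]
        have h6 := mul_right_cancel h5
        exact mul_left_cancel h6
      rwa [h4] at hs
  have h3 : IsPGroup 2 (Subgroup.zpowers x ⊔ (S : Subgroup G) : Subgroup G) :=
    hx.to_sup_of_normal_right' S.isPGroup' h2
  have h4 := S.is_maximal' h3 le_sup_right
  rw [← h4]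
  exact Subgroup.mem_sup_left (Subgroup.mem_zpowers x)

theorem zpow_pgroup {t : G} (ht : Inv t) : IsPGroup 2 (Subgroup.zpowers t) := by
  apply IsPGroup.of_card (n := 1)
  rw [Nat.card_zpowers, ht.orderOf, pow_one]

/-- if a conjugate of an involution of `S` is in `S`, the conjugating element normalises `S` -/
theorem norm_of {t g : G} (ht : Inv t) (htS : t ∈ (S : Subgroup G)) (hg : g * t * g⁻¹ ∈ (S : Subgroup G)) :
    g ∈ Subgroup.normalizer ((S : Subgroup G) : Set G) := by
  rw [Subgroup.mem_normalizer_iff]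
  have key : ∀ {t g : G}, Inv t → t ∈ (S : Subgroup G) → g * t * g⁻¹ ∈ (S : Subgroup G) → ∀ s ∈ (S : Subgroup G),
      g * s * g⁻¹ ∈ (S : Subgroup G) := by
    intro t g ht htS hg s hs
    apply H.mem_S (ht.conj g) hg
    · obtain ⟨n, hn⟩ := IsPGroup.iff_orderOf.1 S.isPGroup' ⟨s, hs⟩
      rw [Subgroup.orderOf_mk] at hn
      apply IsPGroup.of_card (n := n)
      rw [Nat.card_zpowers]
      have : orderOf (g * s * g⁻¹) = orderOf s := by
        have := MulEquiv.orderOf_eq (MulAut.conj g) s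
        rwa [MulAut.conj_apply] at this
      rw [this, hn]
    · have := H.S_comm s hs t htS
      calc g * s * g⁻¹ * (g * t * g⁻¹) = g * (s * t) * g⁻¹ := by group
        _ = g * (t * s) * g⁻¹ := by rw [this]
        _ = _ := by group
  intro s
  constructor
  · exact key ht htS hg s
  · intro hs
    have e : g⁻¹ * (g * t * g⁻¹) * g⁻¹⁻¹ = t := by group
    have := key (g := g⁻¹) (ht.conj g) hg (by rw [e]; exact htS) _ hs
    have e2 : g⁻¹ * (g * s * g⁻¹) * g⁻¹⁻¹ = s := by group
    rwa [e2] at this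

/-- involutions of `N(S)` are in `S` -/
theorem inv_mem {v : G} (hv : Inv v) (hvN : v ∈ Subgroup.normalizer ((S : Subgroup G) : Set G)) : v ∈ (S : Subgroup G) := by
  haveI : Fact (Nat.Prime 2) := ⟨Nat.prime_two⟩
  have h2 : Subgroup.zpowers v ≤ Subgroup.normalizer ((S : Subgroup G) : Set G) := by
    rw [Subgroup.zpowers_le]; exact hvN
  have h3 : IsPGroup 2 (Subgroup.zpowers v ⊔ (S : Subgroup G) : Subgroup G) :=
    (H.zpow_pgroup hv).to_sup_of_normal_right' S.isPGroup' h2
  have h4 := S.is_maximal' h3 le_sup_right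
  rw [← h4]
  exact Subgroup.mem_sup_left (Subgroup.mem_zpowers v)

/-- an involution not commuting with an involution of `S` (equivalently outside `S`) -/
theorem not_comm {t v : G} (ht : Inv t) (htS : t ∈ (S : Subgroup G)) (hv : Inv v) (hvS : v ∉ (S : Subgroup G)) :
    v * t ≠ t * v := fun h => hvS (H.mem_S ht htS (H.zpow_pgroup hv) h)

theorem odd_of_not_comm {t v : G} (ht : Inv t) (hv : Inv v) (h : v * t ≠ t * v) : Odd (orderOf (t * v)) := by
  by_contra hodd
  obtain ⟨w, hw, hwt, hwv⟩ := exists_inv_of_even ht hv hodd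
  apply h
  exact (H.cent_iff hw ht hwt.symm).1 hwv.symm

/-- one class of involutions -/
theorem isConj {t v : G} (ht : Inv t) (hv : Inv v) : ∃ g : G, g * t * g⁻¹ = v := by
  -- first for `t ∈ S`
  obtain ⟨s, -, hsS, -, hs, -⟩ := H.two
  obtain ⟨g, hg⟩ := H.nn
  have hw : Inv (g * s * g⁻¹) := hs.conj g
  have hwS : g * s * g⁻¹ ∉ (S : Subgroup G) := fun h => hg (H.norm_of hs hsS h)
  have key : ∀ t : G, Inv t → ∃ g : G, g * s * g⁻¹ = t := by
    intro t ht
    by_cases htS : t ∈ (S : Subgroup G)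
    · have h1 := H.not_comm ht htS hw hwS
      obtain ⟨x, -, hx⟩ := exists_conj_of_odd hw ht (H.odd_of_not_comm hw ht (fun h => h1 h.symm))
      exact ⟨x * g, by rw [← hx]; group⟩
    · have h1 := H.not_comm hs hsS ht htS
      obtain ⟨x, -, hx⟩ := exists_conj_of_odd hs ht (H.odd_of_not_comm hs ht h1)
      exact ⟨x, hx⟩
  obtain ⟨a, ha⟩ := key t ht
  obtain ⟨b, hb⟩ := key v hv
  refine ⟨b * a⁻¹, ?_⟩
  rw [← ha, ← hb]; group

end Hyp

end Cfsg.Agent.AbC
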