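import Cfsg.Agent.AbC.Good
import Cfsg.Agent.Transfer.Fusion

set_option autoImplicit false
set_option linter.unusedSectionVars false

/-! # Groups with abelian involution centralisers: reduction to the main case (helper2) -/

namespace Cfsg.Agent.AbC

open scoped Classical

universe u

variable {G : Type u} [Group G] [Finite G] {S : Sylow 2 G} {t : G}

/-- subgroups containing `S` -/
theorem HypT.sub (H : HypT S t) (K : Subgroup G) (hSK : (S : Subgroup G) ≤ K) {g : G} (hg : g ∈ K)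
    (hgS : g ∉ Subgroup.normalizer ((S : Subgroup G) : Set G)) : HypT (S.subtype hSK) (⟨t, hSK H.tS⟩ : K) where
  ab := by
    intro v hv a b ha hb
    apply Subtype.ext
    exact H.ab v ⟨fun h => hv.1 (Subtype.ext h), congrArg Subtype.val hv.2⟩ a b (congrArg Subtype.val ha) (congrArg Subtype.val hb)
  two := by
    obtain ⟨s, s', hsS, hsS', hs, hs', hne⟩ := H.two
    refine ⟨⟨s, hSK hsS⟩, ⟨s', hSK hsS'⟩, ?_, ?_, ?_, ?_, ?_⟩
    · exact hsS
    · exact hsS'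
    · exact ⟨fun h => hs.1 (congrArg Subtype.val h), Subtype.ext hs.2⟩
    · exact ⟨fun h => hs'.1 (congrArg Subtype.val h), Subtype.ext hs'.2⟩
    · exact fun h => hne (congrArg Subtype.val h)
  nn := by
    refine ⟨⟨g, hg⟩, fun h => hgS ?_⟩
    rw [H.mem_N_iff]
    have h1 := (Subgroup.mem_normalizer_iff.1 h (⟨t, hSK H.tS⟩ : K)).1 H.tS
    exact h1
  ti := ⟨fun h => H.ti.1 (congrArg Subtype.val h), Subtype.ext H.ti.2⟩
  tS := H.tS

theorem HypT.exists_out (H : HypT S t) :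
    ∃ d ∈ Subgroup.normalizer ((S : Subgroup G) : Set G), d ∉ Subgroup.centralizer ({t} : Set G) := by
  obtain ⟨s, s', hsS, hsS', hs, hs', hne⟩ := H.two
  obtain ⟨g, hg⟩ := H.isConj hs hs'
  have hgN := H.norm_of hs hsS (hg ▸ hsS')
  refine ⟨g, hgN, fun h => hne ?_⟩
  rw [H.cent_S hs hsS] at h
  rw [← hg, h, mul_inv_cancel_right]

/-- every coset of `C(t)` in `K` contains an element inverted by `u` -/
theorem HypT.exists_inv (H : HypT S t) {u : G} (hu : Inv u) {d : G}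
    (hdu : d * u ∉ Subgroup.normalizer ((S : Subgroup G) : Set G)) :
    ∃ a ∈ Subgroup.centralizer ({t} : Set G), u * (a * d) * u⁻¹ = (a * d)⁻¹ := by
  obtain ⟨a, ha, h⟩ := H.all _ hdu
  refine ⟨a, ha, ?_⟩
  rw [hu.inv]
  apply eq_inv_of_mul_eq_one_right
  rw [← h]; group

theorem pow_card_quot_mem {G : Type*} [Group G] (N : Subgroup G) [N.Normal] (g : G) : g ^ N.index ∈ N := by
  rw [← QuotientGroup.eq_one_iff]
  show ((g : G ⧸ N) ^ N.index) = 1
  have : N.index = Nat.card (G ⧸ N) := rfl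
  rw [this]
  exact pow_card_eq_one'

theorem conj_pow_aux {G : Type*} [Group G] (a b : G) (n : ℕ) : a⁻¹ * b ^ n * a = (a⁻¹ * b * a) ^ n := by
  have := conj_pow (i := n) (a := a⁻¹) (b := b)
  rw [inv_inv] at this
  exact this.symm

theorem caseII (H : HypT S t) (hZ : Subgroup.center G = ⊥)
    (IH : ∀ K : Subgroup G, K ≠ ⊤ → (S : Subgroup G) ≤ K → (∃ g ∈ K, g ∉ Subgroup.normalizer ((S : Subgroup G) : Set G)) → Good K) :
    ∀ k ∈ Subgroup.centralizer ({t} : Set G), k ≠ 1 → ∀ g : G, g * k = k * g → g ∈ Subgroup.normalizer ((S : Subgroup G) : Set G) := by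
  set B := Subgroup.normalizer ((S : Subgroup G) : Set G) with hB
  set C := Subgroup.centralizer ({t} : Set G) with hC
  by_contra hcon
  push Not at hcon
  obtain ⟨k, hkC, hk1, g0, hg0k, hg0B⟩ := hcon
  -- bad elements have odd order
  have bad_odd : ∀ x ∈ C, (∃ g : G, g * x = x * g ∧ g ∉ B) → Odd (orderOf x) := by
    rintro x hx ⟨g, hgx, hgB⟩
    rw [← Nat.not_even_iff_odd]
    intro heven
    obtain ⟨n, hn⟩ := exists_inv_pow heven
    have h1 : x ^ n ∈ C := C.pow_mem hx n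
    have h2 := H.inv_C hn h1
    apply hgB
    apply H.C_le
    rw [H.cent_S hn h2]
    have : Commute g x := hgx
    exact this.pow_right n
  -- centralisers of bad elements
  have cent_le : ∀ x ∈ C, C ≤ Subgroup.centralizer ({x} : Set G) := by
    intro x hx c hc
    rw [Subgroup.mem_centralizer_singleton_iff]
    exact H.C_comm hc hx
  have ne_top : ∀ x ∈ C, x ≠ 1 → Subgroup.centralizer ({x} : Set G) ≠ ⊤ := by
    intro x hx hx1 h
    apply hx1
    have : x ∈ Subgroup.center G := by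
      rw [Subgroup.mem_center_iff]
      intro g
      have : g ∈ Subgroup.centralizer ({x} : Set G) := by rw [h]; exact Subgroup.mem_top g
      exact Subgroup.mem_centralizer_singleton_iff.1 this
    rw [hZ, Subgroup.mem_bot] at this
    exact this
  -- E1
  have E1 : ∀ x ∈ C, x ≠ 1 → (∃ g : G, g * x = x * g ∧ g ∉ B) → ∀ y ∈ C, Odd (orderOf y) →
      ∀ g : G, g * x = x * g → g * y = y * g := by
    rintro x hx hx1 ⟨g', hg', hgB'⟩ y hy hodd g hgx
    have hSK : (S : Subgroup G) ≤ Subgroup.centralizer ({x} : Set G) := H.S_le.trans (cent_le x hx)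
    have hG := IH _ (ne_top x hx hx1) hSK ⟨g', Subgroup.mem_centralizer_singleton_iff.2 hg', hgB'⟩
    have HK := H.sub _ hSK (Subgroup.mem_centralizer_singleton_iff.2 hg') hgB'
    have h1 := (Good.facts HK hG).1 ⟨y, cent_le x hx hy⟩ (Subtype.ext (mem_cent.1 hy)) (by
      rw [Subgroup.orderOf_mk]; exact hodd) ⟨g, Subgroup.mem_centralizer_singleton_iff.2 hgx⟩
    exact congrArg Subtype.val h1
  set K := Subgroup.centralizer ({k} : Set G) with hK
  have memK : ∀ {g : G}, g ∈ K ↔ g * k = k * g := Subgroup.mem_centralizer_singleton_iff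
  have hCK : C ≤ K := cent_le k hkC
  have hSK : (S : Subgroup G) ≤ K := H.S_le.trans hCK
  have hg0K : g0 ∈ K := memK.2 hg0k
  have hKtop : K ≠ ⊤ := ne_top k hkC hk1
  have HK := H.sub K hSK hg0K hg0B
  have hGK := IH K hKtop hSK ⟨g0, hg0K, hg0B⟩
  have oddcent : ∀ y ∈ C, Odd (orderOf y) → ∀ g ∈ K, g * y = y * g := fun y hy hodd g hg =>
    E1 k hkC hk1 ⟨g0, hg0k, hg0B⟩ y hy hodd g (memK.1 hg)
  -- b.
  have hb : ∀ g : G, g * t * g⁻¹ ∈ K → g ∈ K := by
    intro g hg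
    have h1 : Inv (⟨g * t * g⁻¹, hg⟩ : K) := ⟨fun h => (H.ti.conj g).1 (congrArg Subtype.val h), Subtype.ext (H.ti.conj g).2⟩
    obtain ⟨x, hx⟩ := HK.isConj HK.ti h1
    have hx' : (x : G) * t * (x : G)⁻¹ = g * t * g⁻¹ := congrArg Subtype.val hx
    have h2 : (x : G)⁻¹ * g ∈ C := by
      rw [mem_cent]
      have h3 : ((x : G)⁻¹ * g) * t * ((x : G)⁻¹ * g)⁻¹ = t := by
        calc ((x : G)⁻¹ * g) * t * ((x : G)⁻¹ * g)⁻¹ = (x : G)⁻¹ * (g * t * g⁻¹) * x := by group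
          _ = (x : G)⁻¹ * ((x : G) * t * (x : G)⁻¹) * x := by rw [hx']
          _ = t := by group
      exact mul_inv_eq_iff_eq_mul.1 h3
    have h3 := K.mul_mem x.2 (hCK h2)
    rwa [mul_inv_cancel_left] at h3
  have hBK : B ≤ K := fun b hbB => hb b (hSK (H.mem_N_iff.1 hbB))
  -- an involution outside `K`
  obtain ⟨g1, hg1⟩ : ∃ g1 : G, g1 ∉ K := by
    by_contra hcon
    push Not at hcon
    exact hKtop (eq_top_iff.2 fun g _ => hcon g)
  set u := g1 * t * g1⁻¹ with hud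
  have hu : Inv u := H.ti.conj g1
  have huK : u ∉ K := fun h => hg1 (hb g1 h)
  -- e.
  have he : ∀ v : G, Inv v → v ∈ K → ∀ g : G, g * v * g⁻¹ ∈ K → g ∈ K := by
    intro v hv hvK g hg
    have h1 : Inv (⟨v, hvK⟩ : K) := ⟨fun h => hv.1 (congrArg Subtype.val h), Subtype.ext hv.2⟩
    obtain ⟨x, hx⟩ := HK.isConj HK.ti h1
    have hx' : (x : G) * t * (x : G)⁻¹ = v := congrArg Subtype.val hx
    have h2 : (g * x) ∈ K := by
      apply hb
      rw [← hx'] at hg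
      have : g * x * t * (g * x)⁻¹ = g * ((x : G) * t * (x : G)⁻¹) * g⁻¹ := by group
      rw [this]; exact hg
    have h3 := K.mul_mem h2 (K.inv_mem x.2)
    rwa [mul_inv_cancel_right] at h3
  -- the subgroup `D`
  let D : Subgroup G :=
    { carrier := {x | x ∈ K ∧ u * x * u⁻¹ ∈ K}
      one_mem' := ⟨K.one_mem, by rw [mul_one, mul_inv_cancel]; exact K.one_mem⟩
      mul_mem' := by
        rintro a b ⟨ha, ha'⟩ ⟨hb, hb'⟩
        refine ⟨K.mul_mem ha hb, ?_⟩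
        have : u * (a * b) * u⁻¹ = (u * a * u⁻¹) * (u * b * u⁻¹) := by group
        rw [this]; exact K.mul_mem ha' hb'
      inv_mem' := by
        rintro a ⟨ha, ha'⟩
        refine ⟨K.inv_mem ha, ?_⟩
        have : u * a⁻¹ * u⁻¹ = (u * a * u⁻¹)⁻¹ := by group
        rw [this]; exact K.inv_mem ha' }
  have memD : ∀ {x : G}, x ∈ D ↔ x ∈ K ∧ u * x * u⁻¹ ∈ K := Iff.rfl
  have huD : ∀ {x : G}, x ∈ D → u * x * u⁻¹ ∈ D := by
    intro x hx
    refine memD.2 ⟨(memD.1 hx).2, ?_⟩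
    have : u * (u * x * u⁻¹) * u⁻¹ = x := by
      calc u * (u * x * u⁻¹) * u⁻¹ = (u * u) * x * (u * u)⁻¹ := by group
        _ = x := by rw [hu.2]; group
    rw [this]; exact (memD.1 hx).1
  have outB : ∀ {d : G}, d ∈ K → d * u ∉ B := by
    intro d hd h
    apply huK
    have := K.mul_mem (K.inv_mem hd) (hBK h)
    rwa [inv_mul_cancel_left] at this
  -- h.
  have hcentral : ∀ x ∈ D, x ∈ C → ∀ g ∈ K, g * x = x * g := by
    intro x hxD hxC
    apply oddcent x hxC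
    rw [← Nat.not_even_iff_odd]
    intro heven
    obtain ⟨n, hn⟩ := exists_inv_pow heven
    have h1 := memD.1 (D.pow_mem hxD n)
    exact huK (he _ hn h1.1 u h1.2)
  -- i.
  have hzeta : ∀ x ∈ D, ∀ y ∈ D, (u * x * u⁻¹ * x) * y = y * (u * x * u⁻¹ * x) := by
    intro x hx y hy
    obtain ⟨a, ha, h⟩ := H.exists_inv hu (outB (memD.1 hx).1)
    have hax : a * x ∈ D := memD.2 ⟨K.mul_mem (hCK ha) (memD.1 hx).1, by
      rw [h]; exact K.inv_mem (K.mul_mem (hCK ha) (memD.1 hx).1)⟩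
    have haD : a ∈ D := by
      have := D.mul_mem hax (D.inv_mem hx)
      rwa [mul_inv_cancel_right] at this
    have hc1 := hcentral a⁻¹ (D.inv_mem haD) (C.inv_mem ha)
    have e1 : u * x * u⁻¹ * x = (u * a⁻¹ * u⁻¹) * a⁻¹ := by
      have e2 : u * x * u⁻¹ = (u * a⁻¹ * u⁻¹) * (u * (a * x) * u⁻¹) := by group
      rw [e2, h]
      have e3 := hc1 x (memD.1 hx).1
      calc u * a⁻¹ * u⁻¹ * (a * x)⁻¹ * x = u * a⁻¹ * u⁻¹ * (x⁻¹ * (a⁻¹ * x)) := by group
        _ = u * a⁻¹ * u⁻¹ * (x⁻¹ * (x * a⁻¹)) := by rw [e3]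
        _ = _ := by group
    have e4 := hc1 y (memD.1 hy).1
    have e5 : (u * a⁻¹ * u⁻¹) * y = y * (u * a⁻¹ * u⁻¹) := by
      have e6 := hc1 (u * y * u⁻¹) (memD.1 hy).2
      have e7 : u⁻¹ = u := hu.inv
      have e8 : ∀ w : G, u * (u * w * u⁻¹) * u⁻¹ = w := by
        intro w
        calc u * (u * w * u⁻¹) * u⁻¹ = (u * u) * w * (u * u)⁻¹ := by group
          _ = w := by rw [hu.2]; group
      calc (u * a⁻¹ * u⁻¹) * y = (u * a⁻¹ * u⁻¹) * (u * (u * y * u⁻¹) * u⁻¹) := by rw [e8]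
        _ = u * (a⁻¹ * (u * y * u⁻¹)) * u⁻¹ := by group
        _ = u * ((u * y * u⁻¹) * a⁻¹) * u⁻¹ := by rw [e6]
        _ = (u * (u * y * u⁻¹) * u⁻¹) * (u * a⁻¹ * u⁻¹) := by group
        _ = _ := by rw [e8]
    rw [e1]
    calc (u * a⁻¹ * u⁻¹) * a⁻¹ * y = (u * a⁻¹ * u⁻¹) * (a⁻¹ * y) := by group
      _ = (u * a⁻¹ * u⁻¹) * (y * a⁻¹) := by rw [e4]
      _ = ((u * a⁻¹ * u⁻¹) * y) * a⁻¹ := by group
      _ = (y * (u * a⁻¹ * u⁻¹)) * a⁻¹ := by rw [e5]
      _ = _ := by group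
  -- j. commutators are central in `D`
  have hcomm : ∀ x ∈ D, ∀ g ∈ D, ∀ y ∈ D, (x⁻¹ * g⁻¹ * x * g) * y = y * (x⁻¹ * g⁻¹ * x * g) := by
    intro x hx g hg y hy
    have z1 := hzeta x hx
    have z2 := hzeta g hg
    have z3 := hzeta (x * g) (D.mul_mem hx hg)
    set ζ1 := u * x * u⁻¹ * x with hζ1
    set ζ2 := u * g * u⁻¹ * g with hζ2
    set ζ3 := u * (x * g) * u⁻¹ * (x * g) with hζ3
    have e1 : u * x * u⁻¹ = ζ1 * x⁻¹ := by rw [hζ1]; group
    have e2 : u * g * u⁻¹ = ζ2 * g⁻¹ := by rw [hζ2]; group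
    have e3 : u * (x * g) * u⁻¹ = ζ3 * (x * g)⁻¹ := by rw [hζ3]; group
    have e4 : u * (x * g) * u⁻¹ = (u * x * u⁻¹) * (u * g * u⁻¹) := by group
    rw [e1, e2, e3] at e4
    have hz2x := z2 _ (D.inv_mem hx)
    have e5 : x⁻¹ * g⁻¹ * x * g = ζ2⁻¹ * ζ1⁻¹ * ζ3 := by
      have e6 : ζ1 * ζ2 * (x⁻¹ * g⁻¹) = ζ3 * (x * g)⁻¹ := by
        calc ζ1 * ζ2 * (x⁻¹ * g⁻¹) = ζ1 * (ζ2 * x⁻¹) * g⁻¹ := by group
          _ = ζ1 * (x⁻¹ * ζ2) * g⁻¹ := by rw [hz2x]
          _ = ζ1 * x⁻¹ * (ζ2 * g⁻¹) := by group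
          _ = ζ3 * (x * g)⁻¹ := e4.symm
      calc x⁻¹ * g⁻¹ * x * g = ζ2⁻¹ * ζ1⁻¹ * (ζ1 * ζ2 * (x⁻¹ * g⁻¹)) * (x * g) := by group
        _ = ζ2⁻¹ * ζ1⁻¹ * (ζ3 * (x * g)⁻¹) * (x * g) := by rw [e6]
        _ = _ := by group
    have c1 : Commute ζ1 y := z1 y hy
    have c2 : Commute ζ2 y := z2 y hy
    have c3 : Commute ζ3 y := z3 y hy
    rw [e5]
    exact ((c2.inv_left.mul_left c1.inv_left).mul_left c3)
  -- k.
  have hkern : ∀ r ∈ K, (∀ y ∈ K, y * r * y⁻¹ ∈ B) → r ∈ C := by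
    intro r hrK hr
    have hrB : r ∈ B := by
      have := hr 1 K.one_mem
      rwa [one_mul, inv_one, mul_one] at this
    have h1 : r * t * r⁻¹ ∈ (S : Subgroup G) := H.mem_N_iff.1 hrB
    by_contra hrC
    set w := r * t * r⁻¹ * t⁻¹ with hw
    have hwS : w ∈ (S : Subgroup G) := (S : Subgroup G).mul_mem h1 ((S : Subgroup G).inv_mem H.tS)
    have hw1 : w ≠ 1 := by
      intro h
      apply hrC
      rw [mem_cent]
      exact mul_inv_eq_iff_eq_mul.1 (mul_inv_eq_one.1 h)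
    have hww : w * w = 1 := by
      have h2 := H.S_comm _ h1 t H.tS
      rw [hw, H.ti.inv]
      calc r * t * r⁻¹ * t * (r * t * r⁻¹ * t) = (r * t * r⁻¹) * (t * (r * t * r⁻¹)) * t := by group
        _ = (r * t * r⁻¹) * ((r * t * r⁻¹) * t) * t := by rw [h2]
        _ = r * (t * t) * r⁻¹ * (t * t) := by group
        _ = 1 := by rw [H.ti.2]; group
    have hwi : Inv w := ⟨hw1, hww⟩
    have hwB : ∀ y ∈ K, y * w * y⁻¹ ∈ B := by
      intro y hy
      have h3 : y * w * y⁻¹ = (y * r * y⁻¹) * ((y * t) * r * (y * t)⁻¹)⁻¹ := by rw [hw]; group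
      rw [h3]
      exact B.mul_mem (hr y hy) (B.inv_mem (hr _ (K.mul_mem hy (hSK H.tS))))
    apply hg0B
    exact H.norm_of hwi hwS (H.inv_mem (hwi.conj g0) (hwB g0 hg0K))
  -- l.
  have hkern' : ∀ r ∈ D, (∀ d ∈ D, d * r * d⁻¹ ∈ B) → r ∈ C := by
    intro r hr h
    apply hkern r (memD.1 hr).1
    intro y hy
    obtain ⟨a, ha, h1⟩ := H.exists_inv hu (outB hy)
    have hay : a * y ∈ D := memD.2 ⟨K.mul_mem (hCK ha) hy, by rw [h1]; exact K.inv_mem (K.mul_mem (hCK ha) hy)⟩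
    have h2 : y * r * y⁻¹ = a⁻¹ * ((a * y) * r * (a * y)⁻¹) * a := by group
    rw [h2]
    exact B.mul_mem (B.mul_mem (B.inv_mem (H.C_le ha)) (h _ hay)) (H.C_le ha)
  -- m.
  obtain ⟨d0, hd0, hd0C⟩ := H.exists_out
  obtain ⟨a, ha, hax⟩ := H.exists_inv hu (outB (hBK hd0))
  set x := a * d0 with hx
  have hxB : x ∈ B := B.mul_mem (H.C_le ha) hd0
  have hxD : x ∈ D := memD.2 ⟨hBK hxB, by rw [hax]; exact K.inv_mem (hBK hxB)⟩
  have hxC : x ∉ C := by
    intro h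
    apply hd0C
    have := C.mul_mem (C.inv_mem ha) h
    rwa [hx, inv_mul_cancel_left] at this
  -- numbers
  obtain ⟨q, hq4, hqe, hqn, hqK⟩ := (Good.facts HK hGK).2
  have hn : Nat.card {s : G // s ∈ (S : Subgroup G) ∧ Inv s} = q - 1 := by
    rw [← hqn]
    refine Nat.card_eq_of_bijective (fun s : {s : G // s ∈ (S : Subgroup G) ∧ Inv s} =>
      (⟨⟨s, hSK s.2.1⟩, s.2.1, ⟨fun h => s.2.2.1 (congrArg Subtype.val h), Subtype.ext s.2.2.2⟩⟩ :
        {s : K // s ∈ ((S.subtype hSK : Sylow 2 K) : Subgroup K) ∧ Inv s})) ⟨?_, ?_⟩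
    · intro s s' h
      exact Subtype.ext (congrArg (fun p : {s : K // s ∈ ((S.subtype hSK : Sylow 2 K) : Subgroup K) ∧ Inv s} => ((p : K) : G)) h)
    · rintro ⟨⟨s, hsK⟩, hsS, hs⟩
      exact ⟨⟨s, hsS, ⟨fun h => hs.1 (Subtype.ext h), congrArg Subtype.val hs.2⟩⟩, rfl⟩
  have hCC : Nat.card (Subgroup.centralizer ({(⟨t, hSK H.tS⟩ : K)} : Set K)) = Nat.card C := by
    refine Nat.card_eq_of_bijective (fun c : Subgroup.centralizer ({(⟨t, hSK H.tS⟩ : K)} : Set K) =>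
      (⟨((c : K) : G), mem_cent.2 (congrArg Subtype.val (Subgroup.mem_centralizer_singleton_iff.1 c.2))⟩ : C)) ⟨?_, ?_⟩
    · intro x y h
      exact Subtype.ext (Subtype.ext (congrArg (fun t : C => (t : G)) h))
    · rintro ⟨c, hc⟩
      exact ⟨⟨⟨c, hCK hc⟩, Subgroup.mem_centralizer_singleton_iff.2 (Subtype.ext (mem_cent.1 hc))⟩, rfl⟩
  have hCpos : 0 < Nat.card C := Nat.card_pos
  have hcardB : Nat.card B = (q - 1) * Nat.card C := by rw [H.card_N, hn]
  rw [hCC] at hqK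
  -- index of `B` in `K`
  have hBidx : (B.subgroupOf K).index = q + 1 := by
    have h1 := Subgroup.card_mul_index (B.subgroupOf K)
    have h2 : Nat.card (B.subgroupOf K) = Nat.card B := Nat.card_congr (Subgroup.subgroupOfEquivOfLe hBK).toEquiv
    rw [h2, hcardB, hqK] at h1
    have h3 : 0 < (q - 1) * Nat.card C := Nat.mul_pos (by omega) hCpos
    apply Nat.eq_of_mul_eq_mul_left h3
    rw [h1]; ring
  -- `x ^ (q - 1) ∈ C`
  have hCn : (C.subgroupOf B).Normal := ⟨fun c hc b => H.norm_C b.2 hc⟩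
  have hCidx : (C.subgroupOf B).index = q - 1 := by
    have h1 := Subgroup.card_mul_index (C.subgroupOf B)
    have h2 : Nat.card (C.subgroupOf B) = Nat.card C := Nat.card_congr (Subgroup.subgroupOfEquivOfLe H.C_le).toEquiv
    rw [h2, hcardB] at h1
    apply Nat.eq_of_mul_eq_mul_left hCpos
    rw [h1]; ring
  have hxpow : x ^ (q - 1) ∈ C := by
    have h1 := pow_card_quot_mem (C.subgroupOf B) ⟨x, hxB⟩
    rw [hCidx] at h1
    exact h1
  -- the action of `D` on `K / B`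
  have hDK : D ≤ K := fun d hd => (memD.1 hd).1
  have hwB : ∀ w ∈ D, (∀ y ∈ D, w * y = y * w) → w ^ (q + 1) ∈ B := by
    intro w hw hwc
    let DK : Subgroup K := D.subgroupOf K
    let P : Subgroup DK := MulAction.stabilizer DK ((1 : K) : K ⧸ B.subgroupOf K)
    have htr : MulAction.IsPretransitive DK (K ⧸ B.subgroupOf K) := by
      have h1 : ∀ y : K ⧸ B.subgroupOf K, ∃ d : DK, d • ((1 : K) : K ⧸ B.subgroupOf K) = y := by
        intro y
        obtain ⟨⟨y, hy⟩, rfl⟩ := QuotientGroup.mk_surjective y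
        obtain ⟨a, ha, h1⟩ := H.exists_inv hu (outB (K.inv_mem hy))
        have hay : a * y⁻¹ ∈ D := memD.2 ⟨K.mul_mem (hCK ha) (K.inv_mem hy), by
          rw [h1]; exact K.inv_mem (K.mul_mem (hCK ha) (K.inv_mem hy))⟩
        refine ⟨⟨⟨(a * y⁻¹)⁻¹, hDK (D.inv_mem hay)⟩, D.inv_mem hay⟩, ?_⟩
        show (((⟨(a * y⁻¹)⁻¹, hDK (D.inv_mem hay)⟩ : K) * 1 : K) : K ⧸ B.subgroupOf K) = _
        rw [mul_one, QuotientGroup.eq]
        show ((a * y⁻¹)⁻¹)⁻¹ * y ∈ B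
        have : ((a * y⁻¹)⁻¹)⁻¹ * y = a := by group
        rw [this]; exact H.C_le ha
      constructor
      intro y y'
      obtain ⟨d, hd⟩ := h1 y
      obtain ⟨d', hd'⟩ := h1 y'
      refine ⟨d' * d⁻¹, ?_⟩
      rw [mul_smul, ← hd, inv_smul_smul, hd']
    have hPidx : P.index = q + 1 := by
      rw [MulAction.index_stabilizer_of_transitive]
      exact hBidx
    have h2 : P.relIndex (Subgroup.center DK) ∣ q + 1 := by
      rw [← hPidx, Transfer.relIndex_eq_relIndex_sup]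
      exact Subgroup.relIndex_dvd_index_of_le le_sup_left
    have hwD : (⟨⟨w, hDK hw⟩, hw⟩ : DK) ∈ Subgroup.center DK := by
      rw [Subgroup.mem_center_iff]
      intro y
      apply Subtype.ext
      apply Subtype.ext
      exact (hwc _ y.2).symm
    obtain ⟨m, hm⟩ := h2
    have h3 := pow_card_quot_mem (P.subgroupOf (Subgroup.center DK)) ⟨_, hwD⟩
    have h4 : (⟨⟨w, hDK hw⟩, hw⟩ : DK) ^ (P.relIndex (Subgroup.center DK)) ∈ P := h3
    have h5 := P.pow_mem h4 m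
    rw [← pow_mul, ← hm] at h5
    have h6 : ((⟨w, hDK hw⟩ : K) ^ (q + 1) * 1 : K) = (((⟨w, hDK hw⟩ : K) ^ (q + 1) : K)) := mul_one _
    have h7 : (((⟨w, hDK hw⟩ : K) ^ (q + 1) * 1 : K) : K ⧸ B.subgroupOf K) = ((1 : K) : K ⧸ B.subgroupOf K) := h5
    rw [h6, eq_comm, QuotientGroup.eq, inv_one, one_mul] at h7
    exact h7
  -- final contradiction
  apply hxC
  apply hkern' x hxD
  intro d hd
  set g := d⁻¹ with hgd
  have hgD : g ∈ D := D.inv_mem hd
  set w := x⁻¹ * g⁻¹ * x * g with hw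
  have hwD : w ∈ D := D.mul_mem (D.mul_mem (D.mul_mem (D.inv_mem hxD) (D.inv_mem hgD)) hxD) hgD
  have hwc := hcomm x hxD g hgD
  have hw1 : w ^ (q - 1) = 1 := by
    have h1 : g⁻¹ * x * g = x * w := by rw [hw]; group
    have h2 : Commute x w := (hwc x hxD).symm
    have h3 : g⁻¹ * x ^ (q - 1) * g = x ^ (q - 1) * w ^ (q - 1) := by
      rw [← h2.mul_pow, ← h1]
      exact conj_pow_aux g x (q - 1)
    have h4 := hcentral _ (D.pow_mem hxD (q - 1)) hxpow g (hDK hgD)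
    have h5 : g⁻¹ * x ^ (q - 1) * g = x ^ (q - 1) := by rw [mul_assoc, ← h4, inv_mul_cancel_left]
    rw [h5] at h3
    exact (mul_eq_left.1 h3.symm)
  have hw2 := hwB w hwD hwc
  have hwBB : w ∈ B := by
    obtain ⟨m, hm⟩ := hqe
    have h1 : w ^ (q + 1) = w ^ 2 := by
      have : q + 1 = (q - 1) + 2 := by omega
      rw [this, pow_add, hw1, one_mul]
    rw [h1] at hw2
    have h2 : w = (w ^ 2) ^ m := by
      rw [← pow_mul]
      have : 2 * m = (q - 1) + 1 := by omega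
      rw [this, pow_succ, hw1, one_mul]
    rw [h2]; exact B.pow_mem hw2 m
  have h1 : d * x * d⁻¹ = x * w := by rw [hw, hgd]; group
  rw [h1]
  exact B.mul_mem hxB hwBB

end Cfsg.Agent.AbC
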