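import Cfsg.Agent.AbC.Good
import Cfsg.Agent.S0089

set_option autoImplicit false
set_option linter.unusedSectionVars false

/-! # Groups with abelian involution centralisers: the centre (helper2) -/

namespace Cfsg.Agent.AbC

open scoped Classical

universe u

variable {G : Type u} [Group G] [Finite G] {S : Sylow 2 G} {t : G}

namespace HypT

variable (H : HypT S t)
include H

theorem center_sq {z : G} (hz : z ∈ Subgroup.center G) (hzz : z * z = 1) : z = 1 := by
  by_contra hz1
  have hzi : Inv z := ⟨hz1, hzz⟩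
  have h1 : z ∈ (S : Subgroup G) := H.inv_C hzi (mem_cent.2 (Subgroup.mem_center_iff.1 hz t).symm)
  obtain ⟨g, hg⟩ := H.nn
  apply hg
  apply H.norm_of hzi h1
  rw [Subgroup.mem_center_iff.1 hz g, mul_inv_cancel_right]; exact h1

theorem odd_center : Odd (Nat.card (Subgroup.center G)) := by
  rw [← Nat.not_even_iff_odd, even_iff_two_dvd]
  intro h
  haveI : Fact (Nat.Prime 2) := ⟨Nat.prime_two⟩
  obtain ⟨y, hy⟩ := exists_prime_orderOf_dvd_card' (G := Subgroup.center G) 2 h
  have hyy : (y : G) * y = 1 := by
    have h1 := pow_orderOf_eq_one y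
    rw [hy, sq] at h1
    exact congrArg Subtype.val h1
  have := H.center_sq y.2 hyy
  have : y = 1 := Subtype.ext this
  rw [this, orderOf_one] at hy
  omega

/-- involutions lift -/
theorem lift {v : G ⧸ Subgroup.center G} (hv : Inv v) : ∃ w : G, Inv w ∧ (w : G ⧸ Subgroup.center G) = v := by
  obtain ⟨g, rfl⟩ := QuotientGroup.mk_surjective v
  obtain ⟨j, hj⟩ := H.odd_center
  have hg2 : g * g ∈ Subgroup.center G := by
    have : ((g * g : G) : G ⧸ Subgroup.center G) = 1 := hv.2
    exact (QuotientGroup.eq_one_iff _).1 this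
  have hmk : ((g ^ (2 * j + 1) : G) : G ⧸ Subgroup.center G) = g := by
    rw [QuotientGroup.mk_pow, pow_succ, pow_mul, sq, hv.2, one_pow, one_mul]
  refine ⟨g ^ (2 * j + 1), ⟨?_, ?_⟩, hmk⟩
  · intro h
    rw [h] at hmk
    exact hv.1 hmk.symm
  · have h1 : (⟨g * g, hg2⟩ : Subgroup.center G) ^ (Nat.card (Subgroup.center G)) = 1 := pow_card_eq_one'
    have h2 : (g * g) ^ (Nat.card (Subgroup.center G)) = 1 := congrArg Subtype.val h1
    rw [hj] at h2
    rw [← pow_add, ← h2, ← sq, ← pow_mul]
    congr 1; ring

/-- commuting lifts -/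
theorem comm_lift {v g : G} (hv : Inv v) (h : ((g * v : G) : G ⧸ Subgroup.center G) = ((v * g : G) : G ⧸ Subgroup.center G)) :
    g * v = v * g := by
  rw [QuotientGroup.eq] at h
  have hz : g * v * g⁻¹ * v⁻¹ ∈ Subgroup.center G := by
    have h1 : g * v * g⁻¹ * v⁻¹ = (g * v) * ((g * v)⁻¹ * (v * g))⁻¹ * (g * v)⁻¹ := by group
    rw [h1]
    exact (inferInstance : (Subgroup.center G).Normal).conj_mem _ (Subgroup.inv_mem _ h) _
  set z := g * v * g⁻¹ * v⁻¹ with hzd
  have h2 : g * v * g⁻¹ = z * v := by rw [hzd]; group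
  have h3 : z * z = 1 := by
    have h4 := (hv.conj g).2
    rw [h2] at h4
    have h5 := Subgroup.mem_center_iff.1 hz v
    calc z * z = z * z * (v * v) := by rw [hv.2, mul_one]
      _ = z * (z * v) * v := by group
      _ = z * (v * z) * v := by rw [h5]
      _ = z * v * (z * v) := by group
      _ = 1 := h4
  have h4 := H.center_sq hz h3
  rw [h4, one_mul] at h2
  exact mul_inv_eq_iff_eq_mul.1 h2

theorem mk_inj {s s' : G} (hs : Inv s) (hs' : Inv s') (hsS : s ∈ (S : Subgroup G)) (hsS' : s' ∈ (S : Subgroup G))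
    (h : (s : G ⧸ Subgroup.center G) = s') : s = s' := by
  rw [QuotientGroup.eq] at h
  have h1 : (s⁻¹ * s') * (s⁻¹ * s') = 1 := by
    have h2 := H.S_comm s hsS s' hsS'
    rw [hs.inv]
    calc s * s' * (s * s') = s * (s' * s) * s' := by group
      _ = s * (s * s') * s' := by rw [h2]
      _ = (s * s) * (s' * s') := by group
      _ = 1 := by rw [hs.2, hs'.2, one_mul]
  exact inv_mul_eq_one.1 (H.center_sq h h1)

theorem mk_inv {s : G} (hs : Inv s) : Inv (s : G ⧸ Subgroup.center G) := by
  constructor
  · intro h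
    exact hs.1 (H.center_sq ((QuotientGroup.eq_one_iff _).1 h) hs.2)
  · show ((s * s : G) : G ⧸ Subgroup.center G) = 1
    rw [hs.2]; rfl

theorem quotient [Fact (Nat.Prime 2)] : HypT (S.mapSurjective (QuotientGroup.mk'_surjective (Subgroup.center G)))
    (t : G ⧸ Subgroup.center G) where
  ab := by
    intro v hv a b ha hb
    obtain ⟨w, hw, rfl⟩ := H.lift hv
    obtain ⟨a, rfl⟩ := QuotientGroup.mk_surjective a
    obtain ⟨b, rfl⟩ := QuotientGroup.mk_surjective b
    have h1 := H.comm_lift hw ha
    have h2 := H.comm_lift hw hb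
    show ((a * b : G) : G ⧸ Subgroup.center G) = ((b * a : G) : G ⧸ Subgroup.center G)
    rw [H.ab w hw a b h1 h2]
  two := by
    obtain ⟨s, s', hsS, hsS', hs, hs', hne⟩ := H.two
    exact ⟨s, s', ⟨s, hsS, rfl⟩, ⟨s', hsS', rfl⟩, H.mk_inv hs, H.mk_inv hs', fun h => hne (H.mk_inj hs hs' hsS hsS' h)⟩
  nn := by
    obtain ⟨g, hg⟩ := H.nn
    refine ⟨(g : G ⧸ Subgroup.center G), fun h => hg (H.mem_N_iff.2 ?_)⟩
    have h1 := (Subgroup.mem_normalizer_iff.1 h (t : G ⧸ Subgroup.center G)).1 ⟨t, H.tS, rfl⟩
    obtain ⟨s, hsS, hs⟩ := h1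
    have hs' : (s : G ⧸ Subgroup.center G) = ((g * t * g⁻¹ : G) : G ⧸ Subgroup.center G) := hs
    apply H.inv_C (H.ti.conj g)
    rw [mem_cent]
    apply H.comm_lift H.ti
    show ((g * t * g⁻¹ : G) : G ⧸ Subgroup.center G) * t = t * ((g * t * g⁻¹ : G) : G ⧸ Subgroup.center G)
    rw [← hs']
    show ((s * t : G) : G ⧸ Subgroup.center G) = ((t * s : G) : G ⧸ Subgroup.center G)
    rw [H.S_comm s hsS t H.tS]
  ti := H.mk_inv H.ti
  tS := ⟨t, H.tS, rfl⟩

/-- lifting the conclusion through the centre -/
theorem good_of_quotient (hG : Good (G ⧸ Subgroup.center G)) : Good G := by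
  haveI : Fact (Nat.Prime 2) := ⟨Nat.prime_two⟩
  obtain ⟨F, iF, iFt, A, iA, iAf, hchar, hA, ⟨e⟩⟩ := hG
  obtain ⟨-, hq4, -, -, -⟩ := facts_aux H.quotient hA e
  let ρ : G →* Matrix.SpecialLinearGroup (Fin 2) F :=
    (MonoidHom.fst _ _).comp (e.toMonoidHom.comp (QuotientGroup.mk' (Subgroup.center G)))
  have hρ : ∀ g : G, ρ g = (e (g : G ⧸ Subgroup.center G)).1 := fun g => rfl
  have he2 : ∀ x : G ⧸ Subgroup.center G, x * x = 1 → (e x).2 = 1 := by
    intro x hx
    apply odd_eq_one hA (n := 1)
    rw [pow_one, sq, ← Prod.snd_mul, ← map_mul, hx, map_one]; rfl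
  -- the kernel commutes with involutions
  have hker_inv : ∀ n ∈ ρ.ker, ∀ v : G, Inv v → n * v = v * n := by
    intro n hn v hv
    apply H.comm_lift hv
    show (n : G ⧸ Subgroup.center G) * v = v * n
    apply e.injective
    rw [map_mul, map_mul]
    have h1 : (e (n : G ⧸ Subgroup.center G)).1 = 1 := hn
    have h2 := he2 v (H.mk_inv hv).2
    apply Prod.ext
    · rw [Prod.fst_mul, Prod.fst_mul, h1, one_mul, mul_one]
    · rw [Prod.snd_mul, Prod.snd_mul, h2, one_mul, mul_one]
  have hρsurj : Function.Surjective ρ := by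
    intro x
    obtain ⟨y, hy⟩ := e.surjective (x, 1)
    obtain ⟨g, rfl⟩ := QuotientGroup.mk_surjective y
    exact ⟨g, by rw [hρ, hy]⟩
  -- the kernel is central
  have hker : ρ.ker ≤ Subgroup.center G := by
    intro n hn
    have h1 : ∀ x : Matrix.SpecialLinearGroup (Fin 2) F, x ∈ (Subgroup.centralizer ({n} : Set G)).map ρ := by
      intro x
      refine ClassBase.transvection_induction (fun M => M ∈ (Subgroup.centralizer ({n} : Set G)).map ρ) ?_
        (fun A B => mul_mem) x
      intro i j hij a
      set τ := Matrix.SpecialLinearGroup.transvection hij a with hτ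
      by_cases hτ1 : τ = 1
      · rw [hτ1]; exact Subgroup.one_mem _
      · have hττ : τ * τ = 1 := by
          have := ClassO.transv_pow_char (p := 2) hij a
          rw [sq] at this
          exact this
        obtain ⟨y, hy⟩ := e.surjective (τ, 1)
        have hyi : Inv y := by
          constructor
          · rintro rfl
            rw [map_one] at hy
            exact hτ1 (congrArg Prod.fst hy).symm
          · apply e.injective
            rw [map_mul, hy, map_one]
            exact Prod.ext hττ (one_mul 1)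
        obtain ⟨v, hv, rfl⟩ := H.lift hyi
        refine ⟨v, ?_, ?_⟩
        · show v ∈ Subgroup.centralizer ({n} : Set G)
          rw [Subgroup.mem_centralizer_singleton_iff]
          exact (hker_inv n hn v hv).symm
        · rw [hρ, hy]
    rw [Subgroup.mem_center_iff]
    intro g
    obtain ⟨c, hc, hcg⟩ := h1 (ρ g)
    have hc' : c * n = n * c := Subgroup.mem_centralizer_singleton_iff.1 hc
    have h2 : g * c⁻¹ ∈ ρ.ker := by
      rw [MonoidHom.mem_ker, map_mul, map_inv, hcg, mul_inv_cancel]
    -- the kernel is abelian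
    have h3 : (g * c⁻¹) * n = n * (g * c⁻¹) := H.ab t H.ti _ _ (hker_inv _ h2 t H.ti) (hker_inv _ hn t H.ti)
    calc g * n = (g * c⁻¹) * (c * n) := by group
      _ = (g * c⁻¹) * (n * c) := by rw [hc']
      _ = ((g * c⁻¹) * n) * c := by group
      _ = (n * (g * c⁻¹)) * c := by rw [h3]
      _ = n * g := by group
  -- Sylow subgroups are abelian
  have hsyl : ∀ p : ℕ, p.Prime → ∀ P : Sylow p G, IsMulCommutative P := by
    intro p hp P
    haveI : Fact p.Prime := ⟨hp⟩
    by_cases hp2 : p = 2
    · subst hp2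
      let f := Sylow.equiv P S
      refine ⟨⟨fun a b => ?_⟩⟩
      apply f.injective
      rw [map_mul, map_mul]
      apply Subtype.ext
      exact H.S_comm _ (f a).2 _ (f b).2
    · let f : P →* Matrix.SpecialLinearGroup (Fin 2) F := ρ.comp (P : Subgroup G).subtype
      have hRp : IsPGroup p f.range := P.isPGroup'.of_surjective f.rangeRestrict f.rangeRestrict_surjective
      have hRc : ∀ x ∈ f.range, ∀ y ∈ f.range, x * y = y * x := by
        by_cases hR : f.range = ⊥
        · intro x hx y hy
          rw [hR, Subgroup.mem_bot] at hx hy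
          rw [hx, hy]
        · haveI : Nontrivial f.range := (Subgroup.nontrivial_iff_ne_bot _).2 hR
          have hc := hRp.center_nontrivial
          obtain ⟨z, hz1⟩ := exists_ne (1 : Subgroup.center f.range)
          intro x hx y hy
          apply sl2_ca ((z : f.range) : Matrix.SpecialLinearGroup (Fin 2) F) x y
          · intro h
            exact hz1 (Subtype.ext (Subtype.ext h))
          · exact congrArg Subtype.val (Subgroup.mem_center_iff.1 z.2 ⟨x, hx⟩)
          · exact congrArg Subtype.val (Subgroup.mem_center_iff.1 z.2 ⟨y, hy⟩)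
      have hcyc : IsCyclic f.range := by
        letI : CommGroup f.range := { (inferInstance : Group f.range) with
          mul_comm := fun a b => Subtype.ext (hRc a a.2 b b.2) }
        apply BTI.isCyclic_of_SL2 f.range.subtype f.range.subtype_injective
        intro a ha
        obtain ⟨n, hn⟩ := IsPGroup.iff_orderOf.1 hRp a
        have h1 : orderOf a ∣ 2 := orderOf_dvd_of_pow_eq_one (by rw [sq]; exact ha)
        rcases (Nat.dvd_prime Nat.prime_two).1 h1 with h2 | h2
        · exact orderOf_eq_one_iff.1 h2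
        · rw [h2] at hn
          have h3 : p ∣ 2 := by
            rw [hn]
            apply dvd_pow_self
            rintro rfl
            rw [pow_zero] at hn
            omega
          exact absurd ((Nat.prime_dvd_prime_iff_eq hp Nat.prime_two).1 h3) hp2
      refine ⟨⟨fun a b => ?_⟩⟩
      apply commutative_of_cyclic_center_quotient f.rangeRestrict
      intro x hx
      rw [MonoidHom.mem_ker] at hx
      have h1 : ρ (x : G) = 1 := congrArg Subtype.val hx
      rw [Subgroup.mem_center_iff]
      intro y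
      exact Subtype.ext (Subgroup.mem_center_iff.1 (hker h1) y)
  have hint := Cfsg.Agent.S0089.result hsyl
  -- perfectness
  have hperf : commutator (Matrix.SpecialLinearGroup (Fin 2) F) = ⊤ := by
    obtain ⟨a, ha⟩ : ∃ a : F, a ≠ 0 ∧ a ≠ 1 := by
      by_contra hcon
      push Not at hcon
      have h1 : (Finset.univ : Finset F) ⊆ {0, 1} := by
        intro a _
        by_cases h : a = 0
        · simp [h]
        · simp [hcon a h]
      have h2 := Finset.card_le_card h1
      have h3 : ({0, 1} : Finset F).card ≤ 2 := Finset.card_le_two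
      rw [Finset.card_univ] at h2
      omega
    exact ClassO.sl_two_perfect ha.1 ha.2 CharTwo.two_eq_zero
  have hmap : (commutator G).map ρ = ⊤ := by
    rw [commutator_def, Subgroup.map_commutator, ← MonoidHom.range_eq_map, MonoidHom.range_eq_top.2 hρsurj, ← commutator_def,
      hperf]
  let Ψ : G →* Matrix.SpecialLinearGroup (Fin 2) F × Abelianization G := ρ.prod Abelianization.of
  have hΨ : Function.Bijective Ψ := by
    constructor
    · rw [injective_iff_map_eq_one]
      intro g hg
      have h1 : ρ g = 1 := congrArg Prod.fst hg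
      have h2 : Abelianization.of g = 1 := congrArg Prod.snd hg
      have h3 : g ∈ commutator G := (QuotientGroup.eq_one_iff g).1 h2
      have h4 : g ∈ commutator G ⊓ Subgroup.center G := ⟨h3, hker h1⟩
      rw [hint, Subgroup.mem_bot] at h4
      exact h4
    · rintro ⟨x, a⟩
      obtain ⟨g, rfl⟩ := QuotientGroup.mk_surjective a
      have h1 : x * (ρ g)⁻¹ ∈ (commutator G).map ρ := by rw [hmap]; exact Subgroup.mem_top _
      obtain ⟨c, hc, hcx⟩ := h1
      refine ⟨c * g, ?_⟩
      apply Prod.ext
      · show ρ (c * g) = x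
        rw [map_mul, hcx, inv_mul_cancel_right]
      · show ((c * g : G) : G ⧸ commutator G) = ((g : G) : G ⧸ commutator G)
        rw [QuotientGroup.mk_mul, (QuotientGroup.eq_one_iff c).2 hc, one_mul]
  let e' : G ≃* Matrix.SpecialLinearGroup (Fin 2) F × Abelianization G := MulEquiv.ofBijective Ψ hΨ
  have hoddAb : Odd (Nat.card (Abelianization G)) := by
    have h1 : Nat.card G = Nat.card (Matrix.SpecialLinearGroup (Fin 2) F) * Nat.card (Abelianization G) := by
      rw [Nat.card_congr e'.toEquiv, Nat.card_prod]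
    have h2 := Subgroup.card_mul_index ρ.ker
    rw [Subgroup.index_ker, MonoidHom.range_eq_top.2 hρsurj, Subgroup.card_top, h1, mul_comm] at h2
    have h3 : Nat.card ρ.ker = Nat.card (Abelianization G) := Nat.eq_of_mul_eq_mul_left Nat.card_pos h2
    rw [← h3]
    obtain ⟨m, hm⟩ := Subgroup.card_dvd_of_le hker
    have h4 := H.odd_center
    rw [hm] at h4
    exact (Nat.odd_mul.1 h4).1
  haveI : Small.{0} (Abelianization G) := Countable.toSmall _
  refine ⟨F, iF, iFt, Shrink.{0} (Abelianization G), inferInstance, Finite.of_equiv _ (equivShrink.{0} (Abelianization G)), hchar, ?_,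
    ⟨e'.trans ((MulEquiv.refl _).prodCongr (Shrink.mulEquiv (α := Abelianization G)).symm)⟩⟩
  rwa [Nat.card_congr (equivShrink.{0} (Abelianization G)).symm]

end HypT

end Cfsg.Agent.AbC
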