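import Cfsg.Agent.AbC.Basic

set_option autoImplicit false
set_option linter.unusedSectionVars false

/-! # Groups with abelian involution centralisers: counting (helper2) -/

namespace Cfsg.Agent.AbC

open scoped Classical

universe u

variable {G : Type u} [Group G] [Finite G] {S : Sylow 2 G} {t : G}

/-- the configuration with a chosen involution of `S` -/
structure HypT (S : Sylow 2 G) (t : G) : Prop extends Hyp S where
  ti : Inv t
  tS : t ∈ (S : Subgroup G)

theorem mem_cent {g : G} : g ∈ Subgroup.centralizer ({t} : Set G) ↔ g * t = t * g := Subgroup.mem_centralizer_singleton_iff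

namespace HypT

variable (H : HypT S t)
include H

/-- all involutions of `S` have the same centraliser -/
theorem cent_S {s : G} (hs : Inv s) (hsS : s ∈ (S : Subgroup G)) {g : G} :
    g ∈ Subgroup.centralizer ({t} : Set G) ↔ g * s = s * g := by
  rw [mem_cent]
  exact H.cent_iff H.ti hs (H.S_comm s hsS t H.tS)

theorem S_le : (S : Subgroup G) ≤ Subgroup.centralizer ({t} : Set G) := fun s hs => mem_cent.2 (H.S_comm s hs t H.tS)

theorem C_comm {a b : G} (ha : a ∈ Subgroup.centralizer ({t} : Set G)) (hb : b ∈ Subgroup.centralizer ({t} : Set G)) :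
    a * b = b * a := H.ab t H.ti a b (mem_cent.1 ha) (mem_cent.1 hb)

/-- involutions of `C(t)` lie in `S` -/
theorem inv_C {s : G} (hs : Inv s) (h : s ∈ Subgroup.centralizer ({t} : Set G)) : s ∈ (S : Subgroup G) :=
  H.mem_S H.ti H.tS (H.zpow_pgroup hs) (mem_cent.1 h)

theorem C_le : Subgroup.centralizer ({t} : Set G) ≤ Subgroup.normalizer ((S : Subgroup G) : Set G) := by
  intro g hg
  apply H.norm_of H.ti H.tS
  rw [mem_cent.1 hg, mul_inv_cancel_right]; exact H.tS

/-- `N(S)` normalises `C(t)` -/
theorem norm_C {b x : G} (hb : b ∈ Subgroup.normalizer ((S : Subgroup G) : Set G)) (hx : x ∈ Subgroup.centralizer ({t} : Set G)) :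
    b * x * b⁻¹ ∈ Subgroup.centralizer ({t} : Set G) := by
  have h1 : b * t * b⁻¹ ∈ (S : Subgroup G) := (Subgroup.mem_normalizer_iff.1 hb t).1 H.tS
  rw [H.cent_S (H.ti.conj b) h1]
  calc b * x * b⁻¹ * (b * t * b⁻¹) = b * (x * t) * b⁻¹ := by group
    _ = b * (t * x) * b⁻¹ := by rw [mem_cent.1 hx]
    _ = _ := by group

theorem mem_N_iff {g : G} : g ∈ Subgroup.normalizer ((S : Subgroup G) : Set G) ↔ g * t * g⁻¹ ∈ (S : Subgroup G) :=
  ⟨fun h => (Subgroup.mem_normalizer_iff.1 h t).1 H.tS, fun h => H.norm_of H.ti H.tS h⟩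

/-- uniqueness of involutions in cosets of `C(t)` -/
theorem eq_one_of_inverted {v x : G} (hv : Inv v) (hvN : v ∉ Subgroup.normalizer ((S : Subgroup G) : Set G))
    (hx : x ∈ Subgroup.centralizer ({t} : Set G)) (h : v * x * v⁻¹ = x⁻¹) : x = 1 := by
  by_contra hx1
  -- `x` has odd order
  have hodd : Odd (orderOf x) := by
    rw [← Nat.not_even_iff_odd]
    intro heven
    obtain ⟨n, hn⟩ := exists_inv_pow heven
    have h1 : x ^ n ∈ Subgroup.centralizer ({t} : Set G) := Subgroup.pow_mem _ hx n
    have h2 := H.inv_C hn h1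
    have h3 : v * x ^ n * v⁻¹ = x ^ n := by
      rw [← conj_pow, h, inv_pow]; exact hn.inv
    have h4 : v ∈ Subgroup.centralizer ({t} : Set G) := by
      rw [H.cent_S hn h2]
      exact mul_inv_eq_iff_eq_mul.1 h3
    exact hvN (H.C_le h4)
  -- `t`, `v` are conjugate in `N(⟨x⟩)`
  have hvt : v * t ≠ t * v := fun h => hvN (H.C_le (mem_cent.2 h))
  obtain ⟨g, hg, hgt⟩ := exists_conj_of_odd H.ti hv (H.odd_of_not_comm H.ti hv hvt)
  have hgN : g ∈ Subgroup.normalizer ((Subgroup.zpowers x : Subgroup G) : Set G) := by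
    refine (Subgroup.closure_le (K := Subgroup.normalizer ((Subgroup.zpowers x : Subgroup G) : Set G))).2 ?_ hg
    rintro y (rfl | rfl)
    · show y ∈ Subgroup.normalizer ((Subgroup.zpowers x : Subgroup G) : Set G)
      rw [Subgroup.mem_normalizer_iff]
      intro w
      have hc : ∀ w ∈ Subgroup.zpowers x, y * w = w * y := by
        intro w hw
        obtain ⟨n, rfl⟩ := Subgroup.mem_zpowers_iff.1 hw
        have : Commute y x := (mem_cent.1 hx).symm
        exact this.zpow_right n
      constructor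
      · intro hw
        rw [hc w hw, mul_inv_cancel_right]; exact hw
      · intro hw
        have h1 := hc _ hw
        have h2 : y * w * y⁻¹ = w := by
          have h5 : y * (y * w * y⁻¹) * y⁻¹ = y * w * y⁻¹ := by rw [h1, mul_inv_cancel_right]
          exact mul_left_cancel (mul_right_cancel h5)
        rwa [h2] at hw
    · show y ∈ Subgroup.normalizer ((Subgroup.zpowers x : Subgroup G) : Set G)
      rw [Subgroup.mem_normalizer_iff]
      have hc : ∀ w ∈ Subgroup.zpowers x, y * w * y⁻¹ ∈ Subgroup.zpowers x := by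
        intro w hw
        obtain ⟨n, rfl⟩ := Subgroup.mem_zpowers_iff.1 hw
        rw [← conj_zpow, h]
        exact Subgroup.zpow_mem _ (Subgroup.inv_mem _ (Subgroup.mem_zpowers x)) n
      intro w
      constructor
      · exact hc w
      · intro hw
        have h1 := hc _ hw
        have h2 : y * (y * w * y⁻¹) * y⁻¹ = w := by
          calc y * (y * w * y⁻¹) * y⁻¹ = (y * y) * w * (y * y)⁻¹ := by group
            _ = w := by rw [hv.2]; group
        rwa [h2] at h1
  have h1 : g⁻¹ * x * g ∈ Subgroup.zpowers x := by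
    have := (Subgroup.mem_normalizer_iff.1 (Subgroup.inv_mem _ hgN) x).1 (Subgroup.mem_zpowers x)
    rwa [inv_inv] at this
  obtain ⟨n, hn⟩ := Subgroup.mem_zpowers_iff.1 h1
  have h2 : v * x = x * v := by
    have h3 : t * (g⁻¹ * x * g) = (g⁻¹ * x * g) * t := by
      rw [← hn]
      have : Commute t x := (mem_cent.1 hx).symm
      exact this.zpow_right n
    rw [← hgt]
    calc g * t * g⁻¹ * x = g * (t * (g⁻¹ * x * g)) * g⁻¹ := by group
      _ = g * ((g⁻¹ * x * g) * t) * g⁻¹ := by rw [h3]
      _ = _ := by group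
  rw [h2, mul_inv_cancel_right] at h
  have h3 : x ^ 2 = 1 := by rw [sq]; nth_rewrite 2 [h]; exact mul_inv_cancel x
  have h4 : orderOf x ∣ 2 := orderOf_dvd_of_pow_eq_one h3
  rcases (Nat.dvd_prime Nat.prime_two).1 h4 with h5 | h5
  · exact hx1 (orderOf_eq_one_iff.1 h5)
  · rw [h5] at hodd
    exact absurd hodd (by decide)

theorem uniq {g a b : G} (hg : g ∉ Subgroup.normalizer ((S : Subgroup G) : Set G)) (ha : a ∈ Subgroup.centralizer ({t} : Set G))
    (hb : b ∈ Subgroup.centralizer ({t} : Set G)) (h1 : (a * g) * (a * g) = 1) (h2 : (b * g) * (b * g) = 1) : a = b := by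
  have hbgN : b * g ∉ Subgroup.normalizer ((S : Subgroup G) : Set G) := by
    intro h
    apply hg
    have := Subgroup.mul_mem _ (Subgroup.inv_mem _ (H.C_le hb)) h
    rwa [inv_mul_cancel_left] at this
  have hbg : Inv (b * g) := ⟨fun h => hbgN (h ▸ Subgroup.one_mem _), h2⟩
  have h3 : (b * g)⁻¹ = b * g := hbg.inv
  have h4 : (a * g)⁻¹ = a * g := inv_eq_of_mul_eq_one_left h1
  have hx : (a * g) * (b * g) = a * b⁻¹ := by
    rw [← h3]; group
  have h5 : ((a * g) * (b * g))⁻¹ = (b * g) * (a * g) := by rw [mul_inv_rev (a * g) (b * g), h3, h4]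
  have hinv : (b * g) * (a * b⁻¹) * (b * g)⁻¹ = (a * b⁻¹)⁻¹ := by
    rw [← hx, h5, h3]
    calc b * g * (a * g * (b * g)) * (b * g) = (b * g) * (a * g) * ((b * g) * (b * g)) := by group
      _ = _ := by rw [h2, mul_one]
  have h6 := H.eq_one_of_inverted hbg hbgN (Subgroup.mul_mem _ ha (Subgroup.inv_mem _ hb)) hinv
  exact mul_inv_eq_one.1 h6

/-- number of involutions of `S` and the index of `C(t)` in `N(S)` -/
theorem card_N : Nat.card (Subgroup.normalizer ((S : Subgroup G) : Set G)) =
    Nat.card {s : G // s ∈ (S : Subgroup G) ∧ Inv s} * Nat.card (Subgroup.centralizer ({t} : Set G)) := by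
  set B := Subgroup.normalizer ((S : Subgroup G) : Set G) with hB
  have htB : t ∈ B := Subgroup.le_normalizer H.tS
  have h1 := CharBase.card_isConj_mul_card_centralizer (⟨t, htB⟩ : B)
  have h2 : Nat.card {x : B // IsConj (⟨t, htB⟩ : B) x} = Nat.card {s : G // s ∈ (S : Subgroup G) ∧ Inv s} := by
    refine Nat.card_eq_of_bijective (fun x : {x : B // IsConj (⟨t, htB⟩ : B) x} =>
      (⟨((x : B) : G), by
        obtain ⟨g, hg⟩ := isConj_iff.1 x.2
        have hg' : (g : G) * t * (g : G)⁻¹ = ((x : B) : G) := congrArg (fun t : B => (t : G)) hg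
        rw [← hg']
        exact ⟨(Subgroup.mem_normalizer_iff.1 g.2 t).1 H.tS, H.ti.conj g⟩⟩ : {s : G // s ∈ (S : Subgroup G) ∧ Inv s})) ⟨?_, ?_⟩
    · intro x y h
      have h0 := congrArg (fun t : {s : G // s ∈ (S : Subgroup G) ∧ Inv s} => (t : G)) h
      exact Subtype.ext (Subtype.ext h0)
    · rintro ⟨s, hsS, hs⟩
      obtain ⟨g, rfl⟩ := H.isConj H.ti hs
      have hg : g ∈ B := H.norm_of H.ti H.tS hsS
      refine ⟨⟨⟨g * t * g⁻¹, ?_⟩, ?_⟩, rfl⟩
      · exact Subgroup.mul_mem _ (Subgroup.mul_mem _ hg htB) (Subgroup.inv_mem _ hg)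
      · exact isConj_iff.2 ⟨⟨g, hg⟩, Subtype.ext rfl⟩
  have h3 : Nat.card (Subgroup.centralizer ({(⟨t, htB⟩ : B)} : Set B)) = Nat.card (Subgroup.centralizer ({t} : Set G)) := by
    refine Nat.card_eq_of_bijective (fun c : Subgroup.centralizer ({(⟨t, htB⟩ : B)} : Set B) =>
      (⟨((c : B) : G), mem_cent.2 (congrArg (fun t : B => (t : G)) (Subgroup.mem_centralizer_singleton_iff.1 c.2))⟩ :
        Subgroup.centralizer ({t} : Set G))) ⟨?_, ?_⟩
    · intro x y h
      have h0 := congrArg (fun s : Subgroup.centralizer ({t} : Set G) => (s : G)) h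
      exact Subtype.ext (Subtype.ext h0)
    · rintro ⟨c, hc⟩
      refine ⟨⟨⟨c, H.C_le hc⟩, ?_⟩, rfl⟩
      rw [Subgroup.mem_centralizer_singleton_iff]
      exact Subtype.ext (mem_cent.1 hc)
  rw [h2, h3] at h1
  exact h1.symm

/-- number of involutions -/
theorem card_inv : Nat.card G = Nat.card {s : G // Inv s} * Nat.card (Subgroup.centralizer ({t} : Set G)) := by
  have h1 := CharBase.card_isConj_mul_card_centralizer t
  have h2 : Nat.card {x : G // IsConj t x} = Nat.card {s : G // Inv s} := by
    apply Nat.card_congr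
    apply Equiv.subtypeEquivRight
    intro x
    constructor
    · intro h
      obtain ⟨g, rfl⟩ := isConj_iff.1 h
      exact H.ti.conj g
    · intro h
      exact isConj_iff.2 (H.isConj H.ti h)
  rw [h2] at h1
  exact h1.symm

/-- every coset of `C(t)` outside `N(S)` contains an involution -/
theorem all : ∀ g : G, g ∉ Subgroup.normalizer ((S : Subgroup G) : Set G) →
    ∃ a ∈ Subgroup.centralizer ({t} : Set G), (a * g) * (a * g) = 1 := by
  set C := Subgroup.centralizer ({t} : Set G) with hC
  set B := Subgroup.normalizer ((S : Subgroup G) : Set G) with hB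
  -- the map `C × Out → G ∖ B`
  let Out := {v : G // v ∉ B ∧ Inv v}
  have hbij : Function.Bijective (fun x : C × Out => (⟨(x.1 : G) * x.2, fun h => x.2.2.1 (by
      have := Subgroup.mul_mem _ (Subgroup.inv_mem _ (H.C_le x.1.2)) h
      rwa [inv_mul_cancel_left] at this)⟩ : {g : G // g ∉ B})) := by
    rw [Nat.bijective_iff_injective_and_card]
    constructor
    · rintro ⟨a, v⟩ ⟨b, w⟩ h
      have h0 : (a : G) * v = b * w := congrArg (fun t : {g : G // g ∉ B} => (t : G)) h
      have h1 : ((b : G)⁻¹ * a) * (v : G) = w := by rw [mul_assoc, h0]; group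
      have h2 := H.uniq v.2.1 (C.mul_mem (C.inv_mem b.2) a.2) C.one_mem (by rw [h1]; exact w.2.2.2)
        (by rw [one_mul]; exact v.2.2.2)
      have h3 : b = a := Subtype.ext (inv_mul_eq_one.1 h2)
      subst h3
      rw [Subtype.ext (mul_left_cancel h0)]
    · -- counting
      have e1 : Nat.card {g : G // g ∉ B} + Nat.card B = Nat.card G := by
        letI := Fintype.ofFinite G
        rw [Nat.card_eq_fintype_card (α := {g : G // g ∉ B}), Nat.card_eq_fintype_card (α := B), Nat.card_eq_fintype_card (α := G),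
          Fintype.card_subtype_compl]
        have : Fintype.card B ≤ Fintype.card G := Fintype.card_subtype_le _
        exact Nat.sub_add_cancel this
      have e2 : Nat.card {s : G // Inv s} = Nat.card Out + Nat.card {s : G // s ∈ (S : Subgroup G) ∧ Inv s} := by
        rw [← Nat.card_sum]
        refine (Nat.card_eq_of_bijective (fun x : Out ⊕ {s : G // s ∈ (S : Subgroup G) ∧ Inv s} => (match x with
          | Sum.inl v => (⟨v, v.2.2⟩ : {s : G // Inv s})
          | Sum.inr v => ⟨v, v.2.2⟩ : {s : G // Inv s})) ⟨?_, ?_⟩).symm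
        · intro x y h
          match x, y, h with
          | Sum.inl v, Sum.inl w, h =>
            have h1 : (v : G) = w := congrArg (fun t : {s : G // Inv s} => (t : G)) h
            exact congrArg Sum.inl (Subtype.ext h1)
          | Sum.inl v, Sum.inr w, h =>
            exfalso
            have h1 : (v : G) = w := congrArg (fun t : {s : G // Inv s} => (t : G)) h
            exact v.2.1 (by rw [h1]; exact Subgroup.le_normalizer w.2.1)
          | Sum.inr w, Sum.inl v, h =>
            exfalso
            have h1 : (w : G) = v := congrArg (fun t : {s : G // Inv s} => (t : G)) h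
            exact v.2.1 (by rw [← h1]; exact Subgroup.le_normalizer w.2.1)
          | Sum.inr v, Sum.inr w, h =>
            have h1 : (v : G) = w := congrArg (fun t : {s : G // Inv s} => (t : G)) h
            exact congrArg Sum.inr (Subtype.ext h1)
        · rintro ⟨v, hv⟩
          by_cases hvB : v ∈ B
          · exact ⟨Sum.inr ⟨v, H.inv_mem hv hvB, hv⟩, rfl⟩
          · exact ⟨Sum.inl ⟨v, hvB, hv⟩, rfl⟩
      have e3 := H.card_inv
      have e4 := H.card_N
      rw [e2, add_mul] at e3
      rw [Nat.card_prod, mul_comm]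
      have e5 : Nat.card Out * Nat.card C + Nat.card B = Nat.card G := by rw [e3, e4]
      omega
  intro g hg
  obtain ⟨⟨a, v⟩, h⟩ := hbij.2 ⟨g, hg⟩
  have h0 : (a : G) * v = g := congrArg (fun t : {g : G // g ∉ B} => (t : G)) h
  refine ⟨(a : G)⁻¹, C.inv_mem a.2, ?_⟩
  rw [← h0, inv_mul_cancel_left]
  exact v.2.2.2

end HypT

end Cfsg.Agent.AbC
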