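import Cfsg.Agent.AbC.Main
import Cfsg.Agent.BSW.Syl
import Cfsg.Agent.S1230

set_option autoImplicit false
set_option linter.unusedSectionVars false

/-! # Groups with abelian involution centralisers: identification in the main case (helper2) -/

namespace Cfsg.Agent.AbC

open scoped Classical
open Cfsg.Agent.H34 Cfsg.Agent.H37.ZT

universe u

variable {G : Type u} [Group G] [Finite G] {S : Sylow 2 G} {t : G}

namespace HypN

variable (H : HypN S t)
include H

theorem no_regular {L : Subgroup G} (hL : L.Normal)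
    (htr : MulAction.IsPretransitive L (G ⧸ Subgroup.normalizer ((S : Subgroup G) : Set G)))
    (hreg : ∀ a : G ⧸ Subgroup.normalizer ((S : Subgroup G) : Set G), MulAction.stabilizer L a = ⊥) : False := by
  letI := Fintype.ofFinite G
  set B := Subgroup.normalizer ((S : Subgroup G) : Set G) with hB
  have hfpf : ∀ s : G, Inv s → s ∈ (S : Subgroup G) → ∀ l ∈ L, s * l * s⁻¹ = l → l = 1 := by
    intro s hs hsS l hl h
    have h1 : l ∈ B := by
      by_contra hlB
      apply H.free hlB ((H.cent_S hs hsS).2 rfl) hs.1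
      have h2 : l⁻¹ * s * l = s := by
        rw [mul_assoc, mul_inv_eq_iff_eq_mul.1 h, inv_mul_cancel_left]
      rw [h2]; exact Subgroup.le_normalizer hsS
    have h2 : (⟨l, hl⟩ : L) ∈ MulAction.stabilizer L (BTI.base B) := by
      rw [MulAction.mem_stabilizer_iff]
      exact BTI.smul_base.2 h1
    rw [hreg, Subgroup.mem_bot] at h2
    exact congrArg Subtype.val h2
  have hinv : ∀ s : G, Inv s → s ∈ (S : Subgroup G) → ∀ l ∈ L, s * l * s⁻¹ = l⁻¹ := fun s hs hsS =>
    BSW.inverts_of_fpf hs.2 (fun l hl => hL.conj_mem l hl s) (hfpf s hs hsS)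
  obtain ⟨s, s', hsS, hsS', hs, hs', hne⟩ := H.two
  have hss : Inv (s * s') := by
    constructor
    · intro h
      apply hne
      rw [eq_inv_of_mul_eq_one_left h, hs'.inv]
    · have h1 := H.S_comm s hsS s' hsS'
      calc s * s' * (s * s') = s * (s' * s) * s' := by group
        _ = s * (s * s') * s' := by rw [h1]
        _ = (s * s) * (s' * s') := by group
        _ = 1 := by rw [hs.2, hs'.2, one_mul]
  have hL1 : ∀ l ∈ L, l = 1 := by
    intro l hl
    apply hfpf (s * s') hss ((S : Subgroup G).mul_mem hsS hsS') l hl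
    calc s * s' * l * (s * s')⁻¹ = s * (s' * l * s'⁻¹) * s⁻¹ := by group
      _ = s * l⁻¹ * s⁻¹ := by rw [hinv s' hs' hsS' l hl]
      _ = (s * l * s⁻¹)⁻¹ := by group
      _ = l := by rw [hinv s hs hsS l hl, inv_inv]
  obtain ⟨g, hg⟩ := H.nn
  obtain ⟨l, hl⟩ := htr.exists_smul_eq (BTI.base B) (g • BTI.base B)
  have h1 : (l : G) • BTI.base B = g • BTI.base B := hl
  rw [hL1 l l.2, one_smul] at h1
  exact hg (BTI.smul_base.1 h1.symm)

theorem psl : ∃ (F : Type) (_ : Field F) (_ : Fintype F), Fintype.card F = Nat.card S ∧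
    Nonempty (G ≃* Matrix.ProjectiveSpecialLinearGroup (Fin 2) F) := by
  obtain ⟨g, hg⟩ := H.nn
  set B := Subgroup.normalizer ((S : Subgroup G) : Set G) with hB
  set C := Subgroup.centralizer ({t} : Set G) with hC
  set u := g * t * g⁻¹ with hud
  have hu : Inv u := H.ti.conj g
  have huN : u ∉ B := fun h => hg (H.mem_N_iff.2 (H.inv_mem hu h))
  have Q := H.quot hu huN
  have hzgp := Q.zgp
  have hb : u • BTI.base B ≠ BTI.base B := fun h => huN (BTI.smul_base.1 h)
  -- the two-point stabiliser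
  have hst : ∀ d : G, d ∈ stab2 G (BTI.base B) (u • BTI.base B) ↔ d ∈ B ∧ u * d * u⁻¹ ∈ B := by
    intro d
    rw [mem_stab2, BTI.smul_base, BTI.mem_stab_smul, hu.inv]
  have hcardD : Nat.card B = Nat.card (stab2 G (BTI.base B) (u • BTI.base B)) * Nat.card C := by
    rw [mul_comm, ← Nat.card_prod]
    symm
    refine Nat.card_eq_of_bijective (fun x : C × stab2 G (BTI.base B) (u • BTI.base B) => (⟨(x.1 : G) * x.2,
      B.mul_mem (H.C_le x.1.2) ((hst x.2).1 x.2.2).1⟩ : B)) ⟨?_, ?_⟩
    · rintro ⟨a, d⟩ ⟨a', d'⟩ h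
      have h0 : (a : G) * d = a' * d' := congrArg (fun t : B => (t : G)) h
      have h1 : (a' : G)⁻¹ * a = d' * (d : G)⁻¹ := by
        rw [eq_mul_inv_iff_mul_eq, mul_assoc, h0, inv_mul_cancel_left]
      have h2 : (a' : G)⁻¹ * a = 1 := by
        by_contra h3
        apply H.free_inv hu huN (C.mul_mem (C.inv_mem a'.2) a.2) h3
        rw [h1]
        exact ((hst _).1 ((stab2 G (BTI.base B) (u • BTI.base B)).mul_mem d'.2 ((stab2 G (BTI.base B) (u • BTI.base B)).inv_mem d.2))).2
      have h3 : a' = a := Subtype.ext (inv_mul_eq_one.1 h2)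
      subst h3
      rw [Subtype.ext (mul_left_cancel h0)]
    · rintro ⟨b, hb⟩
      obtain ⟨a, ha, h⟩ := H.exists_inverted hu huN hb
      have hab : a * b ∈ B := B.mul_mem (H.C_le ha) hb
      refine ⟨(⟨a⁻¹, C.inv_mem ha⟩, ⟨a * b, (hst _).2 ⟨hab, ?_⟩⟩), ?_⟩
      · rw [h]; exact B.inv_mem hab
      · apply Subtype.ext
        show a⁻¹ * (a * b) = b
        group
  have hD : Nat.card (stab2 G (BTI.base B) (u • BTI.base B)) = Nat.card {s : G // s ∈ (S : Subgroup G) ∧ Inv s} := by
    rw [H.card_N] at hcardD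
    exact (Nat.eq_of_mul_eq_mul_right Nat.card_pos hcardD).symm
  have hcq : Nat.card (G ⧸ B) = Nat.card C + 1 := Q.card_quot
  have hSS : Nat.card (S : Subgroup G) = Nat.card S := rfl
  have htC : t ∈ C := mem_cent.2 rfl
  have heven : Even (Nat.card C) := by
    rw [even_iff_two_dvd]
    have := orderOf_dvd_natCard (⟨t, htC⟩ : C)
    rwa [Subgroup.orderOf_mk, H.ti.orderOf] at this
  have hCpos : 0 < Nat.card C := Nat.card_pos
  have hZ : IsZassenhausGroup G (G ⧸ B) := by
    refine ⟨⟨?_⟩, ?_, ?_, ?_, ?_⟩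
    · intro g1 g2 h
      have h1 : g2⁻¹ * g1 = 1 := hzgp.faithful _ (fun a => by rw [mul_smul, h a, inv_smul_smul])
      exact (inv_mul_eq_one.1 h1).symm
    · rw [MulAction.is_two_pretransitive_iff]
      intro a c d e hac hde
      exact hzgp.trans hac hde
    · intro g a b c h1 h2 h3 h4 h5 h6
      exact Q.three g h1 h2 h3 h4 h5 h6
    · have hD2 : 2 ≤ Nat.card (stab2 G (BTI.base B) (u • BTI.base B)) := by
        rw [hD]
        obtain ⟨s, s', hsS, hsS', hs, hs', hne⟩ := H.two
        have : Nontrivial {s : G // s ∈ (S : Subgroup G) ∧ Inv s} :=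
          ⟨⟨⟨s, hsS, hs⟩, ⟨s', hsS', hs'⟩, fun h => hne (congrArg Subtype.val h)⟩⟩
        exact Finite.one_lt_card
      have : Nontrivial (stab2 G (BTI.base B) (u • BTI.base B)) := Finite.one_lt_card_iff_nontrivial.1 hD2
      obtain ⟨d, hd⟩ := exists_ne (1 : stab2 G (BTI.base B) (u • BTI.base B))
      refine ⟨d, fun h => hd (Subtype.ext h), BTI.base B, u • BTI.base B, hb.symm, ?_, ?_⟩
      · exact (mem_stab2.1 d.2).1
      · exact (mem_stab2.1 d.2).2
    · intro L hL htr
      by_contra hcon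
      push Not at hcon
      exact H.no_regular hL htr hcon
  have hcomm : ∀ x ∈ C, ∀ y ∈ C, x * y = y * x := fun x hx y hy => H.C_comm hx hy
  have hmain : Nat.card C = Nat.card {s : G // s ∈ (S : Subgroup G) ∧ Inv s} + 1 := by
    rcases zass_abelian hZ hb.symm Q.isKer hcomm with h1 | ⟨h1, -⟩
    · rw [hcq, hD] at h1
      have hCt : 2 ≤ Nat.card C := by
        obtain ⟨m, hm⟩ := heven
        omega
      omega
    · rw [hcq] at h1
      obtain ⟨m, hm⟩ := heven
      omega
  -- `C = S` is elementary abelian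
  have hinj : Function.Injective (fun o : Option {s : G // s ∈ (S : Subgroup G) ∧ Inv s} => (match o with
      | none => (1 : S)
      | some s => ⟨s, s.2.1⟩ : S)) := by
    intro o o' h
    match o, o', h with
    | none, none, _ => rfl
    | none, some s, h =>
      exfalso
      have h0 : (1 : G) = s := congrArg (fun t : S => (t : G)) h
      exact s.2.2.1 h0.symm
    | some s, none, h =>
      exfalso
      have h0 : (s : G) = 1 := congrArg (fun t : S => (t : G)) h
      exact s.2.2.1 h0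
    | some s, some s', h =>
      have h0 : (s : G) = s' := congrArg (fun t : S => (t : G)) h
      rw [Subtype.ext h0]
  have hle := Nat.card_le_card_of_injective _ hinj
  rw [Finite.card_option] at hle
  have hSC : (S : Subgroup G) = C := by
    apply Subgroup.eq_of_le_of_card_ge H.S_le
    rw [hmain]; exact hle
  have hbij := (Nat.bijective_iff_injective_and_card _).2 ⟨hinj, by
    rw [Finite.card_option, ← hmain, ← hSC]; rfl⟩
  have hexp : ∀ c ∈ C, c * c = 1 := by
    intro c hc
    rw [← hSC] at hc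
    obtain ⟨o, ho⟩ := hbij.2 ⟨c, hc⟩
    match o, ho with
    | none, ho =>
      have h0 : (1 : G) = c := congrArg (fun t : S => (t : G)) ho
      rw [← h0, one_mul]
    | some s, ho =>
      have h0 : (s : G) = c := congrArg (fun t : S => (t : G)) ho
      rw [← h0]; exact s.2.2.2
  have hexp' : ∀ v : G, Inv v → ∀ c : G, c * v = v * c → c * c = 1 := by
    intro v hv c hcv
    obtain ⟨x, rfl⟩ := H.isConj H.ti hv
    have h1 : x⁻¹ * c * x ∈ C := by
      rw [mem_cent]
      calc x⁻¹ * c * x * t = x⁻¹ * (c * (x * t * x⁻¹)) * x := by group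
        _ = x⁻¹ * ((x * t * x⁻¹) * c) * x := by rw [hcv]
        _ = _ := by group
    have h2 := hexp _ h1
    calc c * c = x * ((x⁻¹ * c * x) * (x⁻¹ * c * x)) * x⁻¹ := by group
      _ = 1 := by rw [h2]; group
  have hnc : ¬ IsCyclic (S : Subgroup G) := by
    intro hcyc
    obtain ⟨g0, hg0⟩ := hcyc.exists_generator
    have h5 : orderOf g0 = Nat.card C := by
      rw [← hSC]
      exact orderOf_eq_card_of_forall_mem_zpowers hg0
    have h6 : g0 ^ 2 = 1 := by
      apply Subtype.ext
      show (g0 : G) ^ 2 = 1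
      rw [sq]; exact hexp g0 (hSC ▸ g0.2)
    have h7 := orderOf_dvd_of_pow_eq_one h6
    rw [h5] at h7
    have h8 := Nat.le_of_dvd (by norm_num) h7
    obtain ⟨s, s', hsS, hsS', hs, hs', hne⟩ := H.two
    have : Nontrivial {s : G // s ∈ (S : Subgroup G) ∧ Inv s} :=
      ⟨⟨⟨s, hsS, hs⟩, ⟨s', hsS', hs'⟩, fun h => hne (congrArg Subtype.val h)⟩⟩
    have h9 : 1 < Nat.card {s : G // s ∈ (S : Subgroup G) ∧ Inv s} := Finite.one_lt_card
    omega
  have hnn : ¬ (S : Subgroup G).Normal := by
    intro hn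
    apply hg
    rw [hB, Subgroup.normalizer_eq_top_iff.2 hn]
    exact Subgroup.mem_top g
  apply Cfsg.Agent.S1230.result S hnc hnn
  intro v hv
  have hvi : Inv v := by
    refine ⟨?_, ?_⟩
    · rintro rfl
      rw [orderOf_one] at hv; omega
    · have h1 := pow_orderOf_eq_one v
      rw [hv, sq] at h1
      exact h1
  refine ⟨⟨⟨fun a b => ?_⟩⟩, fun c hc => ?_⟩
  · exact Subtype.ext (H.ab v hvi a b (Subgroup.mem_centralizer_singleton_iff.1 a.2) (Subgroup.mem_centralizer_singleton_iff.1 b.2))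
  · rw [sq]
    exact hexp' v hvi c (Subgroup.mem_centralizer_singleton_iff.1 hc)

end HypN

end Cfsg.Agent.AbC
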