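import Cfsg.Agent.BTI.SLCyc
import Cfsg.Agent.ClassO.SLTools
import Cfsg.Agent.AbC.Basic

set_option autoImplicit false
set_option linter.unusedSectionVars false

/-! # Facts about `SL(2, F)`, `F` of characteristic two (helper2) -/

namespace Cfsg.Agent.AbC

open Matrix
open scoped Classical

variable {F : Type} [Field F] [CharP F 2]

theorem sl2_eq_one_of_sq (r : F) (h : r ^ 2 = 1) : r = 1 := by
  have h2 : (2 : F) = 0 := CharTwo.two_eq_zero
  have h3 : (r - 1) ^ 2 = 0 := by linear_combination h + (1 - r) * h2
  exact sub_eq_zero.1 (pow_eq_zero_iff (two_ne_zero) |>.1 h3)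

/-- centralisers of nonidentity elements are abelian -/
theorem sl2_ca (g x y : Matrix.SpecialLinearGroup (Fin 2) F) (hg : g ≠ 1) (hx : x * g = g * x) (hy : y * g = g * y) :
    x * y = y * x := by
  have h2 : (2 : F) = 0 := CharTwo.two_eq_zero
  have hdet := g.2
  rw [Matrix.det_fin_two] at hdet
  have ex : (x : Matrix (Fin 2) (Fin 2) F) * g = g * x := congrArg Subtype.val hx
  have ey : (y : Matrix (Fin 2) (Fin 2) F) * g = g * y := congrArg Subtype.val hy
  have x00 := congrFun (congrFun ex 0) 0
  have x01 := congrFun (congrFun ex 0) 1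
  have x10 := congrFun (congrFun ex 1) 0
  have y00 := congrFun (congrFun ey 0) 0
  have y01 := congrFun (congrFun ey 0) 1
  have y10 := congrFun (congrFun ey 1) 0
  simp only [Matrix.mul_apply, Fin.sum_univ_two] at x00 x01 x10 y00 y01 y10
  apply Subtype.ext
  show (x : Matrix (Fin 2) (Fin 2) F) * (y : Matrix (Fin 2) (Fin 2) F) = (y : Matrix (Fin 2) (Fin 2) F) * x
  set a := (g : Matrix (Fin 2) (Fin 2) F) 0 0
  set b := (g : Matrix (Fin 2) (Fin 2) F) 0 1
  set c := (g : Matrix (Fin 2) (Fin 2) F) 1 0
  set d := (g : Matrix (Fin 2) (Fin 2) F) 1 1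
  set p := (x : Matrix (Fin 2) (Fin 2) F) 0 0 with hp
  set q := (x : Matrix (Fin 2) (Fin 2) F) 0 1 with hq
  set r := (x : Matrix (Fin 2) (Fin 2) F) 1 0 with hr
  set s := (x : Matrix (Fin 2) (Fin 2) F) 1 1 with hs
  set p' := (y : Matrix (Fin 2) (Fin 2) F) 0 0 with hp'
  set q' := (y : Matrix (Fin 2) (Fin 2) F) 0 1 with hq'
  set r' := (y : Matrix (Fin 2) (Fin 2) F) 1 0 with hr'
  set s' := (y : Matrix (Fin 2) (Fin 2) F) 1 1 with hs'
  -- the traceless parts are proportional
  have key : q * r' = r * q' ∧ q * (s' - p') = (s - p) * q' ∧ r * (s' - p') = (s - p) * r' := by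
    by_cases hb : b = 0
    · by_cases hc : c = 0
      · have had : a ≠ d := by
          intro had
          apply hg
          have ha : a = 1 := by
            apply sl2_eq_one_of_sq
            have : a * a = 1 := by rw [hb, hc, ← had] at hdet; linear_combination hdet
            rw [sq]; exact this
          apply Subtype.ext
          ext i j
          fin_cases i <;> fin_cases j
          · show a = (1 : Matrix (Fin 2) (Fin 2) F) 0 0; rw [Matrix.one_apply_eq, ha]
          · show b = (1 : Matrix (Fin 2) (Fin 2) F) 0 1; rw [Matrix.one_apply_ne (by decide), hb]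
          · show c = (1 : Matrix (Fin 2) (Fin 2) F) 1 0; rw [Matrix.one_apply_ne (by decide), hc]
          · show d = (1 : Matrix (Fin 2) (Fin 2) F) 1 1; rw [Matrix.one_apply_eq, ← had, ha]
        have hda : d - a ≠ 0 := sub_ne_zero.2 had.symm
        have e1 : q = 0 := by
          apply mul_left_cancel₀ hda
          rw [hb] at x01; linear_combination x01
        have e2 : r = 0 := by
          apply mul_left_cancel₀ hda
          rw [hc] at x10; linear_combination -x10
        have e3 : q' = 0 := by
          apply mul_left_cancel₀ hda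
          rw [hb] at y01; linear_combination y01
        have e4 : r' = 0 := by
          apply mul_left_cancel₀ hda
          rw [hc] at y10; linear_combination -y10
        rw [e1, e2, e3, e4]
        refine ⟨by ring, by ring, by ring⟩
      · -- `c ≠ 0`
        have e1 : q = 0 := by
          have : q * c = 0 := by rw [hb] at x00; linear_combination x00
          exact (mul_eq_zero.1 this).resolve_right hc
        have e3 : q' = 0 := by
          have : q' * c = 0 := by rw [hb] at y00; linear_combination y00
          exact (mul_eq_zero.1 this).resolve_right hc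
        refine ⟨by rw [e1, e3]; ring, by rw [e1, e3]; ring, ?_⟩
        apply mul_left_cancel₀ hc
        linear_combination r * y10 - r' * x10
    · have k2 : q * (s' - p') = (s - p) * q' := by
        apply mul_left_cancel₀ hb
        linear_combination q' * x01 - q * y01
      refine ⟨?_, k2, ?_⟩
      · apply mul_left_cancel₀ hb
        linear_combination q' * x00 - q * y00
      · apply mul_left_cancel₀ hb
        linear_combination -(s' - p') * x00 + c * k2 + (s - p) * y00
  obtain ⟨k1, k2, k3⟩ := key
  ext i j
  fin_cases i <;> fin_cases j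
  · show ((x : Matrix (Fin 2) (Fin 2) F) * y) 0 0 = ((y : Matrix (Fin 2) (Fin 2) F) * x) 0 0
    rw [Matrix.mul_apply, Matrix.mul_apply, Fin.sum_univ_two, Fin.sum_univ_two]
    show p * p' + q * r' = p' * p + q' * r
    linear_combination k1
  · show ((x : Matrix (Fin 2) (Fin 2) F) * y) 0 1 = ((y : Matrix (Fin 2) (Fin 2) F) * x) 0 1
    rw [Matrix.mul_apply, Matrix.mul_apply, Fin.sum_univ_two, Fin.sum_univ_two]
    show p * q' + q * s' = p' * q + q' * s
    linear_combination k2
  · show ((x : Matrix (Fin 2) (Fin 2) F) * y) 1 0 = ((y : Matrix (Fin 2) (Fin 2) F) * x) 1 0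
    rw [Matrix.mul_apply, Matrix.mul_apply, Fin.sum_univ_two, Fin.sum_univ_two]
    show r * p' + s * r' = r' * p + s' * r
    linear_combination -k3
  · show ((x : Matrix (Fin 2) (Fin 2) F) * y) 1 1 = ((y : Matrix (Fin 2) (Fin 2) F) * x) 1 1
    rw [Matrix.mul_apply, Matrix.mul_apply, Fin.sum_univ_two, Fin.sum_univ_two]
    show r * q' + s * s' = r' * q + s' * s
    linear_combination -k1

/-- elements commuting with an involution have order at most two -/
theorem sl2_sq (g x : Matrix.SpecialLinearGroup (Fin 2) F) (hg : g ≠ 1) (hgg : g * g = 1) (hx : x * g = g * x) :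
    x * x = 1 := by
  have h2 : (2 : F) = 0 := CharTwo.two_eq_zero
  have hdet := g.2
  have hdet' := x.2
  rw [Matrix.det_fin_two] at hdet hdet'
  have ex : (x : Matrix (Fin 2) (Fin 2) F) * g = g * x := congrArg Subtype.val hx
  have eg : (g : Matrix (Fin 2) (Fin 2) F) * g = 1 := congrArg Subtype.val hgg
  have x00 := congrFun (congrFun ex 0) 0
  have x01 := congrFun (congrFun ex 0) 1
  have x10 := congrFun (congrFun ex 1) 0
  have g00 := congrFun (congrFun eg 0) 0
  have g01 := congrFun (congrFun eg 0) 1
  have g10 := congrFun (congrFun eg 1) 0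
  have g11 := congrFun (congrFun eg 1) 1
  rw [Matrix.one_apply_eq] at g00 g11
  rw [Matrix.one_apply_ne (by decide)] at g01 g10
  simp only [Matrix.mul_apply, Fin.sum_univ_two] at x00 x01 x10 g00 g01 g10 g11
  set a := (g : Matrix (Fin 2) (Fin 2) F) 0 0
  set b := (g : Matrix (Fin 2) (Fin 2) F) 0 1
  set c := (g : Matrix (Fin 2) (Fin 2) F) 1 0
  set d := (g : Matrix (Fin 2) (Fin 2) F) 1 1
  set p := (x : Matrix (Fin 2) (Fin 2) F) 0 0 with hp
  set q := (x : Matrix (Fin 2) (Fin 2) F) 0 1 with hq
  set r := (x : Matrix (Fin 2) (Fin 2) F) 1 0 with hr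
  set s := (x : Matrix (Fin 2) (Fin 2) F) 1 1 with hs
  have hda : d = a := by
    have h3 : (a + d) * a = 0 := by linear_combination g00 + hdet + h2
    have h4 : (a + d) * b = 0 := by linear_combination g01
    have h5 : a + d = 0 := by
      by_contra hne
      have ha : a = 0 := (mul_eq_zero.1 h3).resolve_left hne
      have hb : b = 0 := (mul_eq_zero.1 h4).resolve_left hne
      rw [ha, hb] at hdet
      exact zero_ne_one (by linear_combination hdet)
    linear_combination h5 - a * h2
  have hps : p = s := by
    by_cases hb : b = 0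
    · by_cases hc : c = 0
      · exfalso
        apply hg
        have ha : a = 1 := by
          apply sl2_eq_one_of_sq
          rw [hb] at g00
          rw [sq]; linear_combination g00
        apply Subtype.ext
        ext i j
        fin_cases i <;> fin_cases j
        · show a = (1 : Matrix (Fin 2) (Fin 2) F) 0 0; rw [Matrix.one_apply_eq, ha]
        · show b = (1 : Matrix (Fin 2) (Fin 2) F) 0 1; rw [Matrix.one_apply_ne (by decide), hb]
        · show c = (1 : Matrix (Fin 2) (Fin 2) F) 1 0; rw [Matrix.one_apply_ne (by decide), hc]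
        · show d = (1 : Matrix (Fin 2) (Fin 2) F) 1 1; rw [Matrix.one_apply_eq, hda, ha]
      · have : c * (s - p) = 0 := by rw [hda] at x10; linear_combination x10
        exact (sub_eq_zero.1 ((mul_eq_zero.1 this).resolve_left hc)).symm
    · have : b * (p - s) = 0 := by rw [hda] at x01; linear_combination x01
      exact sub_eq_zero.1 ((mul_eq_zero.1 this).resolve_left hb)
  rw [← hps] at hdet'
  apply Subtype.ext
  show (x : Matrix (Fin 2) (Fin 2) F) * (x : Matrix (Fin 2) (Fin 2) F) = 1
  ext i j
  fin_cases i <;> fin_cases j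
  · show ((x : Matrix (Fin 2) (Fin 2) F) * x) 0 0 = (1 : Matrix (Fin 2) (Fin 2) F) 0 0
    rw [Matrix.mul_apply, Fin.sum_univ_two, Matrix.one_apply_eq]
    show p * p + q * r = 1
    linear_combination hdet' + q * r * h2
  · show ((x : Matrix (Fin 2) (Fin 2) F) * x) 0 1 = (1 : Matrix (Fin 2) (Fin 2) F) 0 1
    rw [Matrix.mul_apply, Fin.sum_univ_two, Matrix.one_apply_ne (by decide)]
    show p * q + q * s = 0
    rw [← hps]; linear_combination p * q * h2
  · show ((x : Matrix (Fin 2) (Fin 2) F) * x) 1 0 = (1 : Matrix (Fin 2) (Fin 2) F) 1 0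
    rw [Matrix.mul_apply, Fin.sum_univ_two, Matrix.one_apply_ne (by decide)]
    show r * p + s * r = 0
    rw [← hps]; linear_combination p * r * h2
  · show ((x : Matrix (Fin 2) (Fin 2) F) * x) 1 1 = (1 : Matrix (Fin 2) (Fin 2) F) 1 1
    rw [Matrix.mul_apply, Fin.sum_univ_two, Matrix.one_apply_eq]
    show r * q + s * s = 1
    rw [← hps]; linear_combination hdet' + q * r * h2

end Cfsg.Agent.AbC
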