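import Cfsg.Agent.AbC.Count
import Cfsg.Agent.AbC.SL2

set_option autoImplicit false
set_option linter.unusedSectionVars false

/-! # Facts about `SL(2, 2^n) × A` (helper2) -/

namespace Cfsg.Agent.AbC

open scoped Classical

universe u

/-- the target -/
def Good (G : Type u) [Group G] : Prop :=
  ∃ (F : Type) (_ : Field F) (_ : Fintype F) (A : Type) (_ : CommGroup A) (_ : Finite A), CharP F 2 ∧ Odd (Nat.card A) ∧
    Nonempty (G ≃* Matrix.SpecialLinearGroup (Fin 2) F × A)

variable {G : Type u} [Group G] [Finite G] {S : Sylow 2 G} {t : G}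

theorem odd_eq_one {A : Type*} [Group A] [Finite A] (hA : Odd (Nat.card A)) (a : A) {n : ℕ} (h : a ^ (2 ^ n) = 1) : a = 1 := by
  have h1 : orderOf a ∣ 2 ^ n := orderOf_dvd_of_pow_eq_one h
  have h2 : orderOf a ∣ Nat.card A := orderOf_dvd_natCard a
  have h3 : Nat.Coprime (2 ^ n) (Nat.card A) := Nat.Coprime.pow_left _ ((Nat.coprime_two_left).2 hA)
  exact orderOf_eq_one_iff.1 (Nat.eq_one_of_dvd_coprimes h3 h1 h2)

theorem facts_aux (H : HypT S t) {F : Type} [Field F] [Fintype F] [hchar : CharP F 2] {A : Type} [CommGroup A] [Finite A]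
    (hA : Odd (Nat.card A)) (e : G ≃* Matrix.SpecialLinearGroup (Fin 2) F × A) :
    (∀ y : G, y * t = t * y → Odd (orderOf y) → ∀ g : G, g * y = y * g) ∧
      4 ≤ Fintype.card F ∧ Even (Fintype.card F) ∧ Nat.card {s : G // s ∈ (S : Subgroup G) ∧ Inv s} = Fintype.card F - 1 ∧
        Nat.card G = (Fintype.card F + 1) * (Fintype.card F - 1) * Nat.card (Subgroup.centralizer ({t} : Set G)) := by
  haveI : Fact (Nat.Prime 2) := ⟨Nat.prime_two⟩
  have hti := H.ti
  -- components of `t`
  set t1 := (e t).1 with ht1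
  have he2 : ∀ x : G, ∀ n : ℕ, x ^ (2 ^ n) = 1 → (e x).2 = 1 := by
    intro x n hx
    apply odd_eq_one hA (n := n)
    rw [← Prod.pow_snd, ← map_pow, hx, map_one]; rfl
  have hta : (e t).2 = 1 := he2 t 1 (by rw [pow_one, sq]; exact hti.2)
  have ht1ne : t1 ≠ 1 := by
    intro h
    apply hti.1
    apply e.injective
    rw [map_one]
    exact Prod.ext h hta
  have ht11 : t1 * t1 = 1 := by
    rw [ht1, ← Prod.fst_mul, ← map_mul, hti.2, map_one]; rfl
  have hcomm1 : ∀ x : G, x * t = t * x → (e x).1 * t1 = t1 * (e x).1 := by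
    intro x hx
    rw [ht1, ← Prod.fst_mul, ← Prod.fst_mul, ← map_mul, ← map_mul, hx]
  have hfix : ∀ x : G, x * t = t * x → (e x).1 * (e x).1 = 1 := fun x hx => sl2_sq t1 _ ht1ne ht11 (hcomm1 x hx)
  constructor
  · intro y hy hodd g
    have h1 := hfix y hy
    have h2 : (e y).1 = 1 := by
      have h3 : orderOf (e y).1 ∣ 2 := orderOf_dvd_of_pow_eq_one (by rw [sq]; exact h1)
      have h4 : orderOf (e y).1 ∣ orderOf y := by
        apply orderOf_dvd_of_pow_eq_one
        rw [← Prod.pow_fst, ← map_pow, pow_orderOf_eq_one, map_one]; rfl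
      rcases (Nat.dvd_prime Nat.prime_two).1 h3 with h5 | h5
      · exact orderOf_eq_one_iff.1 h5
      · rw [h5] at h4
        exact absurd (even_iff_two_dvd.2 h4) (Nat.not_even_iff_odd.2 hodd)
    apply e.injective
    rw [map_mul, map_mul]
    apply Prod.ext
    · rw [Prod.fst_mul, Prod.fst_mul, h2, mul_one, one_mul]
    · rw [Prod.snd_mul, Prod.snd_mul, mul_comm]
  -- numerical part
  obtain ⟨⟨k, hk0⟩, -, hk⟩ := FiniteField.card F 2
  simp only [PNat.mk_coe] at hk
  set q := Fintype.card F with hq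
  have hq2 : 2 ≤ q := by
    rw [hk]
    calc 2 = 2 ^ 1 := rfl
      _ ≤ 2 ^ k := Nat.pow_le_pow_right (by norm_num) hk0
  have hqe : Even q := by rw [hk]; exact Nat.even_pow.2 ⟨even_two, hk0.ne'⟩
  have hSL : Nat.card (Matrix.SpecialLinearGroup (Fin 2) F) = q * (q ^ 2 - 1) := ClassO.card_SL_two
  have hq21 : q ^ 2 - 1 = (q + 1) * (q - 1) := by
    obtain ⟨m, hm⟩ : ∃ m, q = m + 1 := ⟨q - 1, by omega⟩
    rw [hm, Nat.add_sub_cancel]
    have : (m + 1) ^ 2 = (m + 1 + 1) * m + 1 := by ring
    omega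
  have hodd1 : Odd ((q + 1) * (q - 1)) := by
    obtain ⟨m, hm⟩ := hqe
    exact Odd.mul ⟨m, by omega⟩ ⟨m - 1, by omega⟩
  have hcardG : Nat.card G = q * ((q + 1) * (q - 1)) * Nat.card A := by
    rw [Nat.card_congr e.toEquiv, Nat.card_prod, hSL, hq21]
  have hApos : 0 < Nat.card A := Nat.card_pos
  -- the Sylow subgroup
  have hScard : Nat.card S = q := by
    rw [S.card_eq_multiplicity]
    have h5 : (Nat.card G).factorization 2 = k := by
      have h6 : Odd (((q + 1) * (q - 1)) * Nat.card A) := hodd1.mul hA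
      rw [hcardG, mul_assoc, hk] 
      rw [hk] at h6
      have h7 : ((2 ^ k + 1) * (2 ^ k - 1) * Nat.card A) ≠ 0 := h6.pos.ne'
      rw [Nat.factorization_mul (by positivity) h7, Nat.prime_two.factorization_pow,
        Finsupp.add_apply, Finsupp.single_eq_same, Nat.factorization_eq_zero_of_not_dvd, add_zero]
      intro hdvd
      exact (Nat.not_even_iff_odd.2 h6) (even_iff_two_dvd.2 hdvd)
    rw [h5, hk]
  have hSS : Nat.card (S : Subgroup G) = Nat.card S := rfl
  -- `S` has exponent two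
  have hSexp : ∀ s ∈ (S : Subgroup G), s * s = 1 ∧ (e s).2 = 1 := by
    intro s hs
    obtain ⟨n, hn⟩ := IsPGroup.iff_orderOf.1 S.isPGroup' ⟨s, hs⟩
    rw [Subgroup.orderOf_mk] at hn
    have h1 := he2 s n (by rw [← hn]; exact pow_orderOf_eq_one s)
    have h2 := hfix s (H.S_comm s hs t H.tS)
    refine ⟨?_, h1⟩
    apply e.injective
    rw [map_mul, map_one]
    apply Prod.ext
    · exact h2
    · rw [Prod.snd_mul, h1]; exact one_mul 1
  -- number of involutions of `S`
  have hn : Nat.card {s : G // s ∈ (S : Subgroup G) ∧ Inv s} + 1 = q := by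
    rw [← hScard, ← Finite.card_option]
    refine Nat.card_eq_of_bijective (fun o : Option {s : G // s ∈ (S : Subgroup G) ∧ Inv s} => (match o with
      | none => (1 : S)
      | some s => ⟨s, s.2.1⟩ : S)) ⟨?_, ?_⟩
    · intro o o' h
      match o, o', h with
      | none, none, _ => rfl
      | none, some s, h =>
        exfalso
        have h0 : (1 : G) = s := congrArg (fun t : S => (t : G)) h
        exact s.2.2.1 h0.symm
      | some s, none, h =>
        exfalso
        have h0 : (s : G) = 1 := congrArg (fun t : S => (t : G)) h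
        exact s.2.2.1 h0
      | some s, some s', h =>
        have h0 : (s : G) = s' := congrArg (fun t : S => (t : G)) h
        rw [Subtype.ext h0]
    · rintro ⟨s, hs⟩
      by_cases hs1 : s = 1
      · exact ⟨none, Subtype.ext hs1.symm⟩
      · exact ⟨some ⟨s, hs, hs1, (hSexp s hs).1⟩, rfl⟩
  have hq4 : 4 ≤ q := by
    obtain ⟨s, s', hsS, hsS', hs, hs', hne⟩ := H.two
    have : Nontrivial {s : G // s ∈ (S : Subgroup G) ∧ Inv s} :=
      ⟨⟨⟨s, hsS, hs⟩, ⟨s', hsS', hs'⟩, fun h => hne (congrArg Subtype.val h)⟩⟩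
    have h9 : 1 < Nat.card {s : G // s ∈ (S : Subgroup G) ∧ Inv s} := Finite.one_lt_card
    obtain ⟨m, hm⟩ := hqe
    omega
  refine ⟨hq4, hqe, by omega, ?_⟩
  -- the centraliser
  have hC : Nat.card (Subgroup.centralizer ({t} : Set G)) =
      Nat.card (Subgroup.centralizer ({t1} : Set (Matrix.SpecialLinearGroup (Fin 2) F))) * Nat.card A := by
    rw [← Nat.card_prod]
    refine Nat.card_eq_of_bijective (fun c : Subgroup.centralizer ({t} : Set G) =>
      ((⟨(e c).1, Subgroup.mem_centralizer_singleton_iff.2 (hcomm1 c (mem_cent.1 c.2))⟩, (e c).2) :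
        (Subgroup.centralizer ({t1} : Set (Matrix.SpecialLinearGroup (Fin 2) F))) × A)) ⟨?_, ?_⟩
    · intro c c' h
      apply Subtype.ext
      apply e.injective
      apply Prod.ext
      · exact congrArg (fun p => ((p.1 : Subgroup.centralizer ({t1} : Set (Matrix.SpecialLinearGroup (Fin 2) F))) : Matrix.SpecialLinearGroup (Fin 2) F)) h
      · exact congrArg (fun p : (Subgroup.centralizer ({t1} : Set (Matrix.SpecialLinearGroup (Fin 2) F))) × A => p.2) h
    · rintro ⟨⟨x, hx⟩, a⟩
      refine ⟨⟨e.symm (x, a), ?_⟩, ?_⟩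
      · rw [mem_cent]
        apply e.injective
        rw [map_mul, map_mul, MulEquiv.apply_symm_apply]
        apply Prod.ext
        · exact Subgroup.mem_centralizer_singleton_iff.1 hx
        · rw [Prod.snd_mul, Prod.snd_mul, mul_comm]
      · simp only [MulEquiv.apply_symm_apply]
  have hU : Nat.card (Subgroup.centralizer ({t1} : Set (Matrix.SpecialLinearGroup (Fin 2) F))) = q := by
    have h1 : IsPGroup 2 (Subgroup.centralizer ({t1} : Set (Matrix.SpecialLinearGroup (Fin 2) F))) := by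
      intro g
      refine ⟨1, ?_⟩
      apply Subtype.ext
      have := sl2_sq t1 g ht1ne ht11 (Subgroup.mem_centralizer_singleton_iff.1 g.2)
      rw [pow_one, sq]
      exact this
    obtain ⟨m, hm⟩ := IsPGroup.iff_card.1 h1
    have h2 : Nat.card (Subgroup.centralizer ({t1} : Set (Matrix.SpecialLinearGroup (Fin 2) F))) ∣ q := by
      have h3 : Nat.card (Subgroup.centralizer ({t1} : Set (Matrix.SpecialLinearGroup (Fin 2) F))) ∣ q * ((q + 1) * (q - 1)) := by
        rw [← hq21, ← hSL]; exact Subgroup.card_subgroup_dvd_card _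
      apply Nat.Coprime.dvd_of_dvd_mul_right _ h3
      rw [hm]
      exact Nat.Coprime.pow_left _ ((Nat.coprime_two_left).2 hodd1)
    apply le_antisymm (Nat.le_of_dvd (by omega) h2)
    rw [← hScard]
    refine Nat.card_le_card_of_injective (fun s : S => (⟨(e s).1, Subgroup.mem_centralizer_singleton_iff.2
      (hcomm1 s (H.S_comm s s.2 t H.tS))⟩ : Subgroup.centralizer ({t1} : Set (Matrix.SpecialLinearGroup (Fin 2) F)))) ?_
    intro s s' h
    apply Subtype.ext
    apply e.injective
    apply Prod.ext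
    · exact congrArg (fun p => ((p : Subgroup.centralizer ({t1} : Set (Matrix.SpecialLinearGroup (Fin 2) F))) : Matrix.SpecialLinearGroup (Fin 2) F)) h
    · rw [(hSexp s s.2).2, (hSexp s' s'.2).2]
  rw [hC, hU, hcardG]; ring

theorem Good.facts (H : HypT S t) (hG : Good G) :
    (∀ y : G, y * t = t * y → Odd (orderOf y) → ∀ g : G, g * y = y * g) ∧
      ∃ q : ℕ, 4 ≤ q ∧ Even q ∧ Nat.card {s : G // s ∈ (S : Subgroup G) ∧ Inv s} = q - 1 ∧
        Nat.card G = (q + 1) * (q - 1) * Nat.card (Subgroup.centralizer ({t} : Set G)) := by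
  obtain ⟨F, iF, iFt, A, iA, iAf, hchar, hA, ⟨e⟩⟩ := hG
  obtain ⟨h1, h2, h3, h4, h5⟩ := facts_aux H hA e
  exact ⟨h1, Fintype.card F, h2, h3, h4, h5⟩

end Cfsg.Agent.AbC
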