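import Cfsg.Agent.AbC.Count
import Cfsg.Agent.BTI.Quot

set_option autoImplicit false
set_option linter.unusedSectionVars false

/-! # Groups with abelian involution centralisers: the main case (helper2) -/

namespace Cfsg.Agent.AbC

open scoped Classical

universe u

variable {G : Type u} [Group G] [Finite G] {S : Sylow 2 G} {t : G}

/-- all centralisers of nonidentity elements of `C(t)` lie in `N(S)` -/
structure HypN (S : Sylow 2 G) (t : G) : Prop extends HypT S t where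
  cen : ∀ k ∈ Subgroup.centralizer ({t} : Set G), k ≠ 1 → ∀ g : G, g * k = k * g → g ∈ Subgroup.normalizer ((S : Subgroup G) : Set G)

namespace HypN

variable (H : HypN S t)
include H

theorem inter {g k : G} (hg : g ∉ Subgroup.normalizer ((S : Subgroup G) : Set G))
    (hk : k ∈ Subgroup.centralizer ({t} : Set G)) (hk' : g⁻¹ * k * g ∈ Subgroup.centralizer ({t} : Set G)) : k = 1 := by
  by_contra hk1
  have h1 : (g * t * g⁻¹) * k = k * (g * t * g⁻¹) := by
    have h2 := mem_cent.1 hk'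
    calc (g * t * g⁻¹) * k = g * (t * (g⁻¹ * k * g)) * g⁻¹ := by group
      _ = g * ((g⁻¹ * k * g) * t) * g⁻¹ := by rw [h2]
      _ = _ := by group
  have h2 := H.cen k hk hk1 _ h1
  have h3 := H.inv_mem (H.ti.conj g) h2
  exact hg (H.mem_N_iff.2 h3)

/-- conjugation invariant form of the hypothesis -/
theorem cen' {v k g : G} (hv : Inv v) (hk1 : k ≠ 1) (hkv : k * v = v * k) (hg : g * k = k * g) :
    (g * v * g⁻¹) * v = v * (g * v * g⁻¹) := by
  obtain ⟨x, rfl⟩ := H.isConj H.ti hv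
  have h1 : x⁻¹ * k * x ∈ Subgroup.centralizer ({t} : Set G) := by
    rw [mem_cent]
    calc x⁻¹ * k * x * t = x⁻¹ * (k * (x * t * x⁻¹)) * x := by group
      _ = x⁻¹ * ((x * t * x⁻¹) * k) * x := by rw [hkv]
      _ = _ := by group
  have h2 : x⁻¹ * k * x ≠ 1 := by
    intro h
    apply hk1
    have : k = x * (x⁻¹ * k * x) * x⁻¹ := by group
    rw [this, h]; group
  have h3 := H.cen _ h1 h2 (x⁻¹ * g * x) (by
    calc x⁻¹ * g * x * (x⁻¹ * k * x) = x⁻¹ * (g * k) * x := by group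
      _ = x⁻¹ * (k * g) * x := by rw [hg]
      _ = _ := by group)
  have h4 := H.mem_N_iff.1 h3
  have h5 := H.S_comm _ h4 t H.tS
  calc g * (x * t * x⁻¹) * g⁻¹ * (x * t * x⁻¹) = x * ((x⁻¹ * g * x * t * (x⁻¹ * g * x)⁻¹) * t) * x⁻¹ := by group
    _ = x * (t * (x⁻¹ * g * x * t * (x⁻¹ * g * x)⁻¹)) * x⁻¹ := by rw [h5]
    _ = _ := by group

theorem free_inv {v y : G} (hv : Inv v) (hvN : v ∉ Subgroup.normalizer ((S : Subgroup G) : Set G))
    (hy : y ∈ Subgroup.centralizer ({t} : Set G)) (hy1 : y ≠ 1) :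
    v * y * v⁻¹ ∉ Subgroup.normalizer ((S : Subgroup G) : Set G) := by
  intro hyN
  set y' := v * y * v⁻¹ with hy'
  have hvi := hv.inv
  have hvy' : v * y' * v⁻¹ = y := by
    rw [hy']
    calc v * (v * y * v⁻¹) * v⁻¹ = (v * v) * y * (v * v)⁻¹ := by group
      _ = y := by rw [hv.2]; group
  -- `y` and `y'` commute
  have hw : y⁻¹ * (y'⁻¹ * y * y') = 1 := by
    apply H.inter hvN
    · apply Subgroup.mul_mem _ (Subgroup.inv_mem _ hy)
      have := H.norm_C (Subgroup.inv_mem _ hyN) hy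
      rwa [inv_inv] at this
    · have h1 : v⁻¹ * (y⁻¹ * (y'⁻¹ * y * y')) * v = (y⁻¹ * (y'⁻¹ * y * y'))⁻¹ := by
        calc v⁻¹ * (y⁻¹ * (y'⁻¹ * y * y')) * v = v * (y⁻¹ * (y'⁻¹ * y * y')) * v⁻¹ := by rw [hvi]
          _ = (v * y * v⁻¹)⁻¹ * ((v * y' * v⁻¹)⁻¹ * (v * y * v⁻¹) * (v * y' * v⁻¹)) := by group
          _ = y'⁻¹ * (y⁻¹ * y' * y) := by rw [hvy', ← hy']
          _ = _ := by group
      rw [h1]
      apply Subgroup.inv_mem
      apply Subgroup.mul_mem _ (Subgroup.inv_mem _ hy)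
      have := H.norm_C (Subgroup.inv_mem _ hyN) hy
      rwa [inv_inv] at this
  have hc : y * y' = y' * y := by
    have h1 : y'⁻¹ * y * y' = y := (inv_mul_eq_one.1 hw).symm
    calc y * y' = y' * (y'⁻¹ * y * y') := by group
      _ = y' * y := by rw [h1]
  -- `c = y y'`
  have hc1 : y * y' ≠ 1 := by
    intro h
    apply hy1
    apply H.inter hvN hy
    have h2 : v⁻¹ * y * v = y' := by rw [hy', hvi]
    rw [h2, eq_inv_of_mul_eq_one_right h]
    exact Subgroup.inv_mem _ hy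
  have hcv : (y * y') * v = v * (y * y') := by
    have h1 : v * (y * y') * v⁻¹ = y * y' := by
      calc v * (y * y') * v⁻¹ = (v * y * v⁻¹) * (v * y' * v⁻¹) := by group
        _ = y' * y := by rw [hvy', ← hy']
        _ = y * y' := hc.symm
    exact (mul_inv_eq_iff_eq_mul.1 h1).symm
  have h1 := H.cen' hv hc1 hcv (g := y) (by
    calc y * (y * y') = y * (y' * y) := by rw [hc]
      _ = _ := by group)
  -- `y² = y'²`
  have hyv : y * v * y⁻¹ * v = y * y'⁻¹ := by
    have : y'⁻¹ = v * y⁻¹ * v := by rw [hy', mul_inv_rev, mul_inv_rev, inv_inv, hvi]; group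
    rw [this]; group
  have h2 : (y * y'⁻¹) * (y * y'⁻¹) = 1 := by
    calc (y * y'⁻¹) * (y * y'⁻¹) = (y * v * y⁻¹ * v) * (v * (y * v * y⁻¹)) := by rw [← h1, hyv]
      _ = y * v * y⁻¹ * (v * v) * (y * v * y⁻¹) := by group
      _ = y * v * y⁻¹ * 1 * (y * v * y⁻¹) := by rw [hv.2]
      _ = y * (v * v) * y⁻¹ := by group
      _ = 1 := by rw [hv.2]; group
  have h3 : y * y = y' * y' := by
    have h4 : y'⁻¹ * y = y * y'⁻¹ := by
      rw [inv_mul_eq_iff_eq_mul, ← mul_assoc, ← hc, mul_inv_cancel_right]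
    have h5 : (y * y'⁻¹) * (y * y'⁻¹) = (y * y) * (y' * y')⁻¹ := by
      calc (y * y'⁻¹) * (y * y'⁻¹) = y * (y'⁻¹ * y) * y'⁻¹ := by group
        _ = y * (y * y'⁻¹) * y'⁻¹ := by rw [h4]
        _ = _ := by group
    rw [h5] at h2
    exact mul_inv_eq_one.1 h2
  have h4 : y * y = 1 := by
    apply H.inter hvN (Subgroup.mul_mem _ hy hy)
    have h5 : v⁻¹ * (y * y) * v = y' * y' := by
      calc v⁻¹ * (y * y) * v = (v⁻¹ * y * v) * (v⁻¹ * y * v) := by group
        _ = (v * y * v⁻¹) * (v * y * v⁻¹) := by rw [hvi]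
        _ = _ := rfl
    rw [h5, ← h3]
    exact Subgroup.mul_mem _ hy hy
  have hyi : Inv y := ⟨hy1, h4⟩
  have h5 := H.inv_C hyi hy
  have h6 := H.inv_mem (hyi.conj v) hyN
  exact hvN (H.norm_of hyi h5 h6)

theorem free {g x : G} (hg : g ∉ Subgroup.normalizer ((S : Subgroup G) : Set G))
    (hx : x ∈ Subgroup.centralizer ({t} : Set G)) (hx1 : x ≠ 1) :
    g⁻¹ * x * g ∉ Subgroup.normalizer ((S : Subgroup G) : Set G) := by
  intro h
  obtain ⟨a, ha, hag⟩ := H.all g hg
  have hvN : a * g ∉ Subgroup.normalizer ((S : Subgroup G) : Set G) := by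
    intro h
    apply hg
    have := Subgroup.mul_mem _ (Subgroup.inv_mem _ (H.C_le ha)) h
    rwa [inv_mul_cancel_left] at this
  have hv : Inv (a * g) := ⟨fun h => hvN (h ▸ Subgroup.one_mem _), hag⟩
  apply H.free_inv hv hvN hx hx1
  have h1 : a * g * x * (a * g)⁻¹ = g⁻¹ * x * g := by
    have h2 : a⁻¹ * x * a = x := by
      rw [mul_assoc, H.C_comm hx ha, inv_mul_cancel_left]
    calc a * g * x * (a * g)⁻¹ = (a * g)⁻¹ * x * (a * g) := by rw [hv.inv]
      _ = g⁻¹ * (a⁻¹ * x * a) * g := by group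
      _ = _ := by rw [h2]
  rw [h1]; exact h

/-- centralisers of elements of `N(S)` -/
theorem cent_B {j g : G} (hj : j ∈ Subgroup.normalizer ((S : Subgroup G) : Set G)) (hj1 : j ≠ 1) (hgj : g * j = j * g) :
    g ∈ Subgroup.normalizer ((S : Subgroup G) : Set G) := by
  by_contra hg
  obtain ⟨a, ha, hag⟩ := H.all g hg
  have hvN : a * g ∉ Subgroup.normalizer ((S : Subgroup G) : Set G) := by
    intro h
    apply hg
    have := Subgroup.mul_mem _ (Subgroup.inv_mem _ (H.C_le ha)) h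
    rwa [inv_mul_cancel_left] at this
  have hv : Inv (a * g) := ⟨fun h => hvN (h ▸ Subgroup.one_mem _), hag⟩
  have h1 : j * (a * g) * j⁻¹ = (j * a * j⁻¹) * g := by
    have : j * g * j⁻¹ = g := by rw [← hgj, mul_inv_cancel_right]
    calc j * (a * g) * j⁻¹ = (j * a * j⁻¹) * (j * g * j⁻¹) := by group
      _ = _ := by rw [this]
  have h2 : j * a * j⁻¹ = a := by
    apply H.uniq hg (H.norm_C hj ha) ha _ hag
    rw [← h1]; exact (hv.conj j).2
  have h3 : j * (a * g) * j⁻¹ = a * g := by rw [h1, h2]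
  obtain ⟨x, hx⟩ := H.isConj H.ti hv
  have hxB : x⁻¹ ∉ Subgroup.normalizer ((S : Subgroup G) : Set G) := by
    intro h
    apply hvN
    rw [← hx]
    have h4 := Subgroup.inv_mem _ h
    rw [inv_inv] at h4
    exact Subgroup.le_normalizer (H.mem_N_iff.1 h4)
  have h4 : x⁻¹ * j * x ∈ Subgroup.centralizer ({t} : Set G) := by
    rw [mem_cent]
    rw [← hx] at h3
    have h5 : j * (x * t * x⁻¹) = (x * t * x⁻¹) * j := mul_inv_eq_iff_eq_mul.1 h3
    calc x⁻¹ * j * x * t = x⁻¹ * (j * (x * t * x⁻¹)) * x := by group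
      _ = x⁻¹ * ((x * t * x⁻¹) * j) * x := by rw [h5]
      _ = _ := by group
  have h5 : x⁻¹ * j * x ≠ 1 := by
    intro h
    apply hj1
    have : j = x * (x⁻¹ * j * x) * x⁻¹ := by group
    rw [this, h]; group
  apply H.free hxB h4 h5
  have h6 : x⁻¹⁻¹ * (x⁻¹ * j * x) * x⁻¹ = j := by group
  rw [h6]; exact hj

variable {u : G} (hu : Inv u) (huN : u ∉ Subgroup.normalizer ((S : Subgroup G) : Set G))
include hu huN

theorem cent_inverted {j x : G} (hj : j ∈ Subgroup.normalizer ((S : Subgroup G) : Set G)) (hj1 : j ≠ 1)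
    (huj : u * j * u⁻¹ = j⁻¹) (hx : x ∈ Subgroup.centralizer ({t} : Set G)) (hxj : x * j = j * x) : x = 1 := by
  by_contra hx1
  apply H.free_inv hu huN hx hx1
  apply H.cent_B hj hj1
  have h1 : x * j⁻¹ = j⁻¹ * x := by rw [eq_inv_mul_iff_mul_eq, ← mul_assoc, ← hxj, mul_inv_cancel_right]
  have h2 : j = u * j⁻¹ * u⁻¹ := by
    have : u * j⁻¹ * u⁻¹ = (u * j * u⁻¹)⁻¹ := by group
    rw [this, huj, inv_inv]
  calc u * x * u⁻¹ * j = u * x * u⁻¹ * (u * j⁻¹ * u⁻¹) := by rw [← h2]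
    _ = u * (x * j⁻¹) * u⁻¹ := by group
    _ = u * (j⁻¹ * x) * u⁻¹ := by rw [h1]
    _ = (u * j⁻¹ * u⁻¹) * (u * x * u⁻¹) := by group
    _ = j * (u * x * u⁻¹) := by rw [← h2]

/-- every coset of `C(t)` in `N(S)` contains an element inverted by `u` -/
theorem exists_inverted {d : G} (hd : d ∈ Subgroup.normalizer ((S : Subgroup G) : Set G)) :
    ∃ a ∈ Subgroup.centralizer ({t} : Set G), u * (a * d) * u⁻¹ = (a * d)⁻¹ := by
  have hdu : d * u ∉ Subgroup.normalizer ((S : Subgroup G) : Set G) := by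
    intro h
    apply huN
    have := Subgroup.mul_mem _ (Subgroup.inv_mem _ hd) h
    rwa [inv_mul_cancel_left] at this
  obtain ⟨a, ha, h⟩ := H.all _ hdu
  refine ⟨a, ha, ?_⟩
  rw [hu.inv]
  apply eq_inv_of_mul_eq_one_right
  rw [← h]; group

theorem conj_inverted {d : G} (hd : d ∈ Subgroup.normalizer ((S : Subgroup G) : Set G))
    (hdC : d ∉ Subgroup.centralizer ({t} : Set G)) :
    ∃ x ∈ Subgroup.centralizer ({t} : Set G), ∃ j ∈ Subgroup.normalizer ((S : Subgroup G) : Set G), j ≠ 1 ∧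
      u * j * u⁻¹ = j⁻¹ ∧ d = x⁻¹ * j * x := by
  obtain ⟨a, ha, h⟩ := H.exists_inverted hu huN hd
  have hj1 : a * d ≠ 1 := by
    intro h1
    apply hdC
    rw [eq_inv_of_mul_eq_one_right h1]
    exact Subgroup.inv_mem _ ha
  have hj : a * d ∈ Subgroup.normalizer ((S : Subgroup G) : Set G) := Subgroup.mul_mem _ (H.C_le ha) hd
  set j := a * d with hjd
  set C := Subgroup.centralizer ({t} : Set G) with hC
  have hinj : Function.Injective (fun x : C => (⟨(x : G)⁻¹ * (j * x * j⁻¹),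
      C.mul_mem (C.inv_mem x.2) (H.norm_C hj x.2)⟩ : C)) := by
    intro x y hxy
    have h0 : (x : G)⁻¹ * (j * x * j⁻¹) = (y : G)⁻¹ * (j * y * j⁻¹) := congrArg (fun t : C => (t : G)) hxy
    have h1 : ((y : G) * (x : G)⁻¹) * j = j * ((y : G) * (x : G)⁻¹) := by
      have e1 : (y : G) * ((x : G)⁻¹ * (j * x * j⁻¹)) = j * y * j⁻¹ := by rw [h0]; group
      have e2 := H.C_comm (H.norm_C hj x.2) (C.inv_mem (H.norm_C hj x.2))
      have e3 : (y : G) * (x : G)⁻¹ = (j * y * j⁻¹) * (j * x * j⁻¹)⁻¹ := by rw [← e1]; group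
      have e4 : (y : G) * (x : G)⁻¹ = j * (y * (x : G)⁻¹) * j⁻¹ := by
        nth_rewrite 1 [e3]; group
      exact (mul_inv_eq_iff_eq_mul.1 e4.symm).symm
    have h2 := H.cent_inverted hu huN hj hj1 h (C.mul_mem y.2 (C.inv_mem x.2)) h1
    exact Subtype.ext (mul_inv_eq_one.1 h2).symm
  obtain ⟨x, hx⟩ := (Finite.injective_iff_surjective.1 hinj) ⟨a⁻¹, C.inv_mem ha⟩
  have h0 : (x : G)⁻¹ * (j * x * j⁻¹) = a⁻¹ := congrArg (fun t : C => (t : G)) hx
  refine ⟨x, x.2, j, hj, hj1, h, ?_⟩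
  have h1 : (x : G)⁻¹ * j * x = ((x : G)⁻¹ * (j * x * j⁻¹)) * j := by group
  rw [h1, h0, hjd]; group

/-- `C_{N(S)}(x) ≤ C(t)` for `x ∈ C(t)` -/
theorem cent {x h : G} (hx : x ∈ Subgroup.centralizer ({t} : Set G)) (hx1 : x ≠ 1)
    (hh : h ∈ Subgroup.normalizer ((S : Subgroup G) : Set G)) (hhx : h * x = x * h) :
    h ∈ Subgroup.centralizer ({t} : Set G) := by
  by_contra hhC
  obtain ⟨y, hy, j, hj, hj1, huj, rfl⟩ := H.conj_inverted hu huN hh hhC
  apply hx1
  apply H.cent_inverted hu huN hj hj1 huj hx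
  have h1 := H.C_comm hx hy
  have h2 : y * x * y⁻¹ = x := by rw [← h1, mul_inv_cancel_right]
  have h3 : x = y * x * y⁻¹ := h2.symm
  calc x * j = (y * x * y⁻¹) * j := by rw [h2]
    _ = y * (x * (y⁻¹ * j * y)) * y⁻¹ := by group
    _ = y * ((y⁻¹ * j * y) * x) * y⁻¹ := by rw [hhx]
    _ = j * (y * x * y⁻¹) := by group
    _ = j * x := by rw [h2]

/-- elements of `N(S) ∩ N(S)^u` are inverted by `u` -/
theorem inverted_of_mem {d : G} (hd : d ∈ Subgroup.normalizer ((S : Subgroup G) : Set G))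
    (hd' : u * d * u⁻¹ ∈ Subgroup.normalizer ((S : Subgroup G) : Set G)) : u * d * u⁻¹ = d⁻¹ := by
  obtain ⟨a, ha, h⟩ := H.exists_inverted hu huN hd
  have ha1 : a = 1 := by
    by_contra ha1
    apply H.free_inv hu huN ha ha1
    have h1 : u * a * u⁻¹ = (u * (a * d) * u⁻¹) * (u * d * u⁻¹)⁻¹ := by group
    rw [h1, h]
    exact Subgroup.mul_mem _ (Subgroup.inv_mem _ (Subgroup.mul_mem _ (H.C_le ha) hd)) (Subgroup.inv_mem _ hd')
  rwa [ha1, one_mul] at h

omit hu huN in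
theorem exists_out : ∃ d ∈ Subgroup.normalizer ((S : Subgroup G) : Set G), d ∉ Subgroup.centralizer ({t} : Set G) := by
  obtain ⟨s, s', hsS, hsS', hs, hs', hne⟩ := H.two
  obtain ⟨g, hg⟩ := H.isConj hs hs'
  have hgN := H.norm_of hs hsS (hg ▸ hsS')
  refine ⟨g, hgN, fun h => hne ?_⟩
  rw [H.cent_S hs hsS] at h
  rw [← hg, h, mul_inv_cancel_right]

/-- `C(t)` is transitive on the cosets of `N(S)` different from the base point -/
theorem trans {g : G} (hg : g ∉ Subgroup.normalizer ((S : Subgroup G) : Set G)) :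
    ∃ x ∈ Subgroup.centralizer ({t} : Set G), (x * u)⁻¹ * g ∈ Subgroup.normalizer ((S : Subgroup G) : Set G) := by
  have hgi : g⁻¹ ∉ Subgroup.normalizer ((S : Subgroup G) : Set G) := fun h => hg (by
    have := Subgroup.inv_mem _ h; rwa [inv_inv] at this)
  obtain ⟨a, ha, hag⟩ := H.all _ hgi
  have hvN : a * g⁻¹ ∉ Subgroup.normalizer ((S : Subgroup G) : Set G) := by
    intro h
    apply hgi
    have := Subgroup.mul_mem _ (Subgroup.inv_mem _ (H.C_le ha)) h
    rwa [inv_mul_cancel_left] at this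
  have hv : Inv (a * g⁻¹) := ⟨fun h => hvN (h ▸ Subgroup.one_mem _), hag⟩
  set v := a * g⁻¹ with hvd
  have hgv : g = v * a := by
    have : v * a = v⁻¹ * a := by rw [hv.inv]
    rw [this, hvd]; group
  -- an element inverted by `v`
  obtain ⟨d, hd, hdC⟩ := H.exists_out
  obtain ⟨b, hb, hbv⟩ := H.exists_inverted hv hvN hd
  have hj1N : b * d ∈ Subgroup.normalizer ((S : Subgroup G) : Set G) := Subgroup.mul_mem _ (H.C_le hb) hd
  have hj1C : b * d ∉ Subgroup.centralizer ({t} : Set G) := by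
    intro h
    apply hdC
    have := Subgroup.mul_mem _ (Subgroup.inv_mem _ hb) h
    rwa [inv_mul_cancel_left] at this
  obtain ⟨x, hx, j, hj, hj1, huj, hjx⟩ := H.conj_inverted hu huN hj1N hj1C
  have hv' : (x * v * x⁻¹) * j * (x * v * x⁻¹)⁻¹ = j⁻¹ := by
    have e1 : j = x * (b * d) * x⁻¹ := by rw [hjx]; group
    calc (x * v * x⁻¹) * j * (x * v * x⁻¹)⁻¹ = x * (v * (x⁻¹ * j * x) * v⁻¹) * x⁻¹ := by group
      _ = x * (b * d)⁻¹ * x⁻¹ := by rw [← hjx, hbv]
      _ = (x * (b * d) * x⁻¹)⁻¹ := by group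
      _ = j⁻¹ := by rw [← e1]
  have h1 : (u * (x * v * x⁻¹)) * j = j * (u * (x * v * x⁻¹)) := by
    have h2 : (u * (x * v * x⁻¹)) * j * (u * (x * v * x⁻¹))⁻¹ = j := by
      calc (u * (x * v * x⁻¹)) * j * (u * (x * v * x⁻¹))⁻¹ = u * ((x * v * x⁻¹) * j * (x * v * x⁻¹)⁻¹) * u⁻¹ := by group
        _ = (u * j * u⁻¹)⁻¹ := by rw [hv']; group
        _ = j := by rw [huj, inv_inv]
    exact mul_inv_eq_iff_eq_mul.1 h2
  have h2 := H.cent_B hj hj1 h1
  refine ⟨x⁻¹, Subgroup.inv_mem _ hx, ?_⟩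
  have h3 : (x⁻¹ * u)⁻¹ * g = (u * (x * v * x⁻¹)) * (x * a) := by
    rw [hgv, mul_inv_rev, inv_inv, hu.inv]; group
  rw [h3]
  exact Subgroup.mul_mem _ h2 (H.C_le (Subgroup.mul_mem _ hx ha))

theorem quot : BTI.Quot (Subgroup.normalizer ((S : Subgroup G) : Set G)) (Subgroup.centralizer ({t} : Set G)) where
  le := H.C_le
  norm := fun b hb x hx => H.norm_C hb hx
  free := fun g hg x hx hx1 => H.free hg hx hx1
  cent := fun x hx hx1 h hh hhx => H.cent hu huN hx hx1 hh hhx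
  idx := by
    set B := Subgroup.normalizer ((S : Subgroup G) : Set G) with hB
    set C := Subgroup.centralizer ({t} : Set G) with hC
    rw [← Finite.card_option]
    symm
    refine Nat.card_eq_of_bijective (fun o : Option C => (match o with
      | none => BTI.base B
      | some x => ((x : G) * u) • BTI.base B : G ⧸ B)) ⟨?_, ?_⟩
    · have h1 : ∀ x : C, ((x : G) * u) • BTI.base B ≠ BTI.base B := by
        intro x h
        have := BTI.smul_base.1 h
        apply huN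
        have h2 := B.mul_mem (B.inv_mem (H.C_le x.2)) this
        rwa [inv_mul_cancel_left] at h2
      intro o o' h
      match o, o', h with
      | none, none, _ => rfl
      | none, some x, h => exact absurd h.symm (h1 x)
      | some x, none, h => exact absurd h (h1 x)
      | some x, some y, h =>
        have h2 : ((x : G) * u) • BTI.base B = ((y : G) * u) • BTI.base B := h
        have h3 : (((y : G) * u)⁻¹ * ((x : G) * u)) • BTI.base B = BTI.base B := by
          rw [mul_smul, h2, inv_smul_smul]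
        have h4 := BTI.smul_base.1 h3
        have h5 : (y : G)⁻¹ * x = 1 := by
          by_contra h6
          apply H.free huN (C.mul_mem (C.inv_mem y.2) x.2) h6
          have h7 : u⁻¹ * ((y : G)⁻¹ * x) * u = ((y : G) * u)⁻¹ * ((x : G) * u) := by group
          rw [h7]; exact h4
        rw [Subtype.ext (inv_mul_eq_one.1 h5).symm]
    · intro w
      obtain ⟨g, rfl⟩ := QuotientGroup.mk_surjective w
      by_cases hg : g ∈ B
      · refine ⟨none, ?_⟩
        show BTI.base B = _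
        rw [BTI.mk_eq, BTI.smul_base.2 hg]
      · obtain ⟨x, hx, h⟩ := H.trans hu huN hg
        refine ⟨some ⟨x, hx⟩, ?_⟩
        show (x * u) • BTI.base B = _
        rw [BTI.mk_eq]
        have h2 := BTI.smul_base.2 h
        rw [mul_smul, inv_smul_eq_iff] at h2
        exact h2.symm
  two := by
    have : Nontrivial (Subgroup.centralizer ({t} : Set G)) := ⟨⟨⟨t, mem_cent.2 rfl⟩, 1, fun h => H.ti.1 (congrArg Subtype.val h)⟩⟩
    exact Finite.one_lt_card

end HypN

end Cfsg.Agent.AbC
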