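import Cfsg.Agent.AbC.Center
import Cfsg.Agent.AbC.CaseII
import Cfsg.Agent.AbC.Fin

set_option autoImplicit false
set_option linter.unusedSectionVars false

/-! # Groups with abelian involution centralisers: the theorem (helper2) -/

namespace Cfsg.Agent.AbC

open scoped Classical

universe u

theorem good_of_psl {G : Type u} [Group G] [Finite G] {F : Type} [Field F] [Fintype F] [CharP F 2]
    (e : G ≃* Matrix.ProjectiveSpecialLinearGroup (Fin 2) F) : Good G := by
  have hcen : Subgroup.center (Matrix.SpecialLinearGroup (Fin 2) F) = ⊥ := by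
    rw [eq_bot_iff]
    intro x hx
    rw [Matrix.SpecialLinearGroup.mem_center_iff] at hx
    obtain ⟨r, hr, h⟩ := hx
    rw [Fintype.card_fin] at hr
    have hr1 : r = 1 := sl2_eq_one_of_sq r hr
    rw [Subgroup.mem_bot]
    apply Subtype.ext
    rw [← h, hr1]
    simp
  have hinj : Function.Injective (QuotientGroup.mk' (Subgroup.center (Matrix.SpecialLinearGroup (Fin 2) F))) := by
    rw [← MonoidHom.ker_eq_bot_iff, QuotientGroup.ker_mk', hcen]
  let e' : Matrix.SpecialLinearGroup (Fin 2) F ≃* Matrix.ProjectiveSpecialLinearGroup (Fin 2) F :=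
    MulEquiv.ofBijective _ ⟨hinj, QuotientGroup.mk'_surjective _⟩
  refine ⟨F, inferInstance, inferInstance, PUnit, inferInstance, inferInstance, inferInstance, ?_, ⟨?_⟩⟩
  · rw [Nat.card_unique]; exact odd_one
  · exact (e.trans e'.symm).trans
      { toFun := fun x => (x, 1)
        invFun := fun p => p.1
        left_inv := fun x => rfl
        right_inv := fun p => rfl
        map_mul' := fun x y => rfl }

theorem main_aux : ∀ (n : ℕ) (G : Type u) [Group G] [Finite G] (S : Sylow 2 G), Hyp S → Nat.card G = n → Good G := by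
  intro n
  induction n using Nat.strong_induction_on with
  | _ n ih =>
    intro G _ _ S H hn
    haveI : Fact (Nat.Prime 2) := ⟨Nat.prime_two⟩
    obtain ⟨t, -, htS, -, ht, -, -⟩ := H.two
    have HT : HypT S t := ⟨H, ht, htS⟩
    by_cases hZ : Subgroup.center G = ⊥
    · have HN : HypN S t := ⟨HT, caseII HT hZ (by
        rintro K hK hSK ⟨g, hg, hgS⟩
        have hlt : Nat.card K < n := by
          rw [← hn]
          have h1 : Nat.card K ≤ Nat.card G := Subgroup.card_le_card_group K
          rcases h1.lt_or_eq with h2 | h2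
          · exact h2
          · exact absurd (Subgroup.eq_top_of_card_eq K h2) hK
        exact ih _ hlt K (S.subtype hSK) (HT.sub K hSK hg hgS).toHyp rfl)⟩
      obtain ⟨F, i1, i2, hF, ⟨e⟩⟩ := HN.psl
      haveI : CharP F 2 := by
        obtain ⟨p, hp⟩ := CharP.exists F
        haveI := hp
        obtain ⟨m, hpp, hm⟩ := FiniteField.card F p
        have h5 : p = 2 := by
          obtain ⟨k, hk⟩ := IsPGroup.iff_card.1 S.isPGroup'
          have h6 : p ∣ 2 ^ k := by
            rw [← hk]
            have : Nat.card (S : Subgroup G) = Nat.card S := rfl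
            rw [this, ← hF, hm]
            exact dvd_pow_self p (PNat.ne_zero m)
          exact (Nat.prime_dvd_prime_iff_eq hpp Nat.prime_two).1 (hpp.dvd_of_dvd_pow h6)
        rw [← h5]; exact hp
      exact good_of_psl e
    · apply HT.good_of_quotient
      have hlt : Nat.card (G ⧸ Subgroup.center G) < n := by
        have h1 := Subgroup.card_mul_index (Subgroup.center G)
        have h2 : Nat.card (G ⧸ Subgroup.center G) = (Subgroup.center G).index := rfl
        have h3 : 1 < Nat.card (Subgroup.center G) := by
          rw [Finite.one_lt_card_iff_nontrivial]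
          exact (Subgroup.nontrivial_iff_ne_bot _).2 hZ
        rw [h2, ← hn, ← h1]
        have h4 : 0 < (Subgroup.center G).index := Nat.pos_of_ne_zero Subgroup.index_ne_zero_of_finite
        nlinarith
      exact ih _ hlt _ _ HT.quotient.toHyp rfl

/-- an abelian 2-group with one involution is cyclic -/
theorem isCyclic_of_unique {S : Type*} [CommGroup S] [Finite S] (hS : IsPGroup 2 S)
    (h : ∀ s s' : S, Inv s → Inv s' → s = s') : IsCyclic S := by
  haveI : Fact (Nat.Prime 2) := ⟨Nat.prime_two⟩
  apply Frob.isCyclic_of_comm_of_sq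
  intro p hp B hB
  have hBp : IsPGroup 2 B := hS.to_subgroup B
  obtain ⟨k, hk⟩ := IsPGroup.iff_card.1 hBp
  have hp2 : p = 2 := by
    have h1 : p ∣ 2 ^ k := by rw [← hk, hB]; exact dvd_mul_right p p
    exact (Nat.prime_dvd_prime_iff_eq hp Nat.prime_two).1 (hp.dvd_of_dvd_pow h1)
  subst hp2
  by_contra hcyc
  -- every element of `B` has order at most two
  have h2 : ∀ b : B, b * b = 1 := by
    intro b
    have h3 : orderOf b ∣ 2 * 2 := by rw [← hB]; exact orderOf_dvd_natCard b
    have h4 : orderOf b ∣ 2 ^ 2 := by rw [sq]; exact h3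
    obtain ⟨j, hj, hj'⟩ := (Nat.dvd_prime_pow Nat.prime_two).1 h4
    interval_cases j
    · rw [pow_zero, orderOf_eq_one_iff] at hj'
      rw [hj', one_mul]
    · rw [pow_one] at hj'
      rw [← sq, ← hj', pow_orderOf_eq_one]
    · exfalso
      apply hcyc
      apply isCyclic_of_orderOf_eq_card b
      rw [hj', hB]; rfl
  have h3 : Nat.card B ≤ 2 := by
    have h4 : Function.Injective (fun b : B => if b = 1 then (0 : Fin 2) else 1) := by
      intro b b' hbb
      by_cases hb : b = 1
      · by_cases hb' : b' = 1
        · rw [hb, hb']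
        · simp only [hb, if_true, hb', if_false] at hbb
          exact absurd hbb (by decide)
      · by_cases hb' : b' = 1
        · simp only [hb', if_true, hb, if_false] at hbb
          exact absurd hbb (by decide)
        · apply Subtype.ext
          apply h
          · exact ⟨fun h => hb (Subtype.ext h), congrArg Subtype.val (h2 b)⟩
          · exact ⟨fun h => hb' (Subtype.ext h), congrArg Subtype.val (h2 b')⟩
    have h5 := Nat.card_le_card_of_injective _ h4
    rwa [Nat.card_eq_fintype_card (α := Fin 2), Fintype.card_fin] at h5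
  rw [hB] at h3
  omega

theorem main {G : Type u} [Group G] [Finite G] (heven : Even (Nat.card G)) (h : AbCent G) :
    (∀ P : Sylow 2 G, IsCyclic ↥P) ∨ (∀ P : Sylow 2 G, (P : Subgroup G).Normal) ∨ Good G := by
  haveI : Fact (Nat.Prime 2) := ⟨Nat.prime_two⟩
  by_cases hcyc : ∀ P : Sylow 2 G, IsCyclic ↥P
  · exact Or.inl hcyc
  by_cases hnorm : ∀ P : Sylow 2 G, (P : Subgroup G).Normal
  · exact Or.inr (Or.inl hnorm)
  right; right
  push Not at hcyc hnorm
  obtain ⟨S, hS⟩ := hcyc
  obtain ⟨P, hP⟩ := hnorm
  -- `S` is abelian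
  have hSab : ∀ a ∈ (S : Subgroup G), ∀ b ∈ (S : Subgroup G), a * b = b * a := by
    haveI : Nontrivial S := by
      by_contra hcon
      rw [not_nontrivial_iff_subsingleton] at hcon
      exact hS inferInstance
    have hc := S.isPGroup'.center_nontrivial
    have hcp : IsPGroup 2 (Subgroup.center S) := S.isPGroup'.to_subgroup _
    obtain ⟨c, hc1⟩ := exists_ne (1 : Subgroup.center S)
    obtain ⟨x, hx, hxi⟩ := exists_inv_mem (P := Subgroup.center S) hcp (by
      intro h
      apply hc1
      apply Subtype.ext
      exact (Subgroup.eq_bot_iff_forall _).1 h c c.2)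
    have hxi' : Inv (x : G) := ⟨fun h => hxi.1 (Subtype.ext h), congrArg Subtype.val hxi.2⟩
    intro a ha b hb
    apply h x hxi' a b
    · exact congrArg Subtype.val (Subgroup.mem_center_iff.1 hx ⟨a, ha⟩)
    · exact congrArg Subtype.val (Subgroup.mem_center_iff.1 hx ⟨b, hb⟩)
  have H : Hyp S := by
    refine ⟨h, ?_, ?_⟩
    · by_contra hcon
      push Not at hcon
      apply hS
      letI : CommGroup S := { (inferInstance : Group S) with mul_comm := fun a b => Subtype.ext (hSab a a.2 b b.2) }
      apply isCyclic_of_unique S.isPGroup'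
      intro s s' hs hs'
      apply Subtype.ext
      exact hcon s s' s.2 s'.2 ⟨fun h => hs.1 (Subtype.ext h), congrArg Subtype.val hs.2⟩
        ⟨fun h => hs'.1 (Subtype.ext h), congrArg Subtype.val hs'.2⟩
    · by_contra hcon
      push Not at hcon
      have h1 : (S : Subgroup G).Normal := Subgroup.normalizer_eq_top_iff.1 (eq_top_iff.2 fun g _ => hcon g)
      obtain ⟨g, hg⟩ := MulAction.exists_smul_eq G S P
      apply hP
      rw [← hg, Sylow.smul_eq_of_normal]
      exact h1
  exact main_aux _ G S H rfl

end Cfsg.Agent.AbC
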